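import Cfsg.Agent.H31.UFour.Fusion

/-!
The centralizer of an involution of the second class: its elements of the first class, its Sylow subgroups,
Glauberman's theorem and its order 96.
-/

set_option autoImplicit false
set_option maxRecDepth 20000
set_option linter.unusedSectionVars false
set_option linter.style.haveILetI false

namespace Cfsg.Agent.H31.UFour

open Subgroup
open Cfsg.Agent.H86.MTwelve (two_iff two_of_isConj exists_normalizing)

lemma odd_check_cube :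
    ((List.range 576).all fun m => m == 0 || !(npow m 9 == 0) || !(cm m 25) ||
      (List.range 576).any fun x => cm x 25 &&
        !(npow (nmul (cj x m) (ninv m)) 3 == 0) && !(npow (nmul (cj x m) (ninv m)) 3 == 25)) = true := by
  decide +kernel

namespace M

lemma odd_free_cube {m : M} (hm : m ≠ 1) (h9 : m ^ 9 = 1) (hc : m * u' = u' * m) :
    ∃ x : M, x * u' = u' * x ∧ (x * m * x⁻¹ * m⁻¹) ^ 3 ≠ 1 ∧ (x * m * x⁻¹ * m⁻¹) ^ 3 ≠ u' := by
  have h1 := all_range odd_check_cube m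
  rw [(npow_eq_one m 9).2 h9, beq_eq_false_iff_ne.2 (fun h => hm (val_inj.1 (h.trans one_val.symm))),
    ← u'_val, (cm_iff m u').2 hc] at h1
  simp only [BEq.rfl, Bool.not_true, Bool.false_or] at h1
  obtain ⟨x, hx⟩ := exists_range h1
  rw [Bool.and_eq_true, Bool.and_eq_true, cm_iff, Bool.not_eq_true', Bool.not_eq_true', beq_eq_false_iff_ne,
    beq_eq_false_iff_ne, ← cj_val, ← inv_val, ← mul_val, ne_eq, ne_eq, npow_eq_one, ← npow_val, val_inj] at hx
  exact ⟨x, hx.1.1, hx.1.2, hx.2⟩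

lemma five_u' : five 0 * five 1 = u' := z_mul_u

lemma five_pair_u' : ∀ i j : Fin 5, five i * five j = u' → (i = 0 ∧ j = 1) ∨ (i = 1 ∧ j = 0) := by
  have key : ∀ i j : Fin 5, nmul (fiveList.getD i 0) (fiveList.getD j 0) = 25 →
      (i = 0 ∧ j = 1) ∨ (i = 1 ∧ j = 0) := by decide +kernel
  intro i j h
  refine key i j ?_
  rw [← five_val, ← five_val, ← mul_val, h, u'_val]

lemma five_mul_u' {i : Fin 5} (h0 : i ≠ 0) (h1 : i ≠ 1) : IsR (five i * u') := by
  have key : ∀ i : Fin 5, i ≠ 0 → i ≠ 1 → isR (nmul (fiveList.getD i 0) 25) = true := by decide +kernel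
  rw [IsR, mul_val, five_val, u'_val]
  exact key i h0 h1

lemma five_facts (i : Fin 5) : IsL (five i) ∧ five i ∈ A := by
  have key : ∀ i : Fin 5, isL (fiveList.getD i 0) = true ∧ isA (fiveList.getD i 0) = true := by decide +kernel
  rw [IsL, A, mem_subOf, five_val]
  exact key i

lemma five_of_A {m : M} (hm : IsL m) (hA : m ∈ A) : ∃ i, five i = m :=
  (isL_comm_q m).1 ⟨hm, A_comm hA q_mem_A⟩

lemma five_of_comm {m : M} (hm : IsL m) (hc : m * u' = u' * m) : ∃ i, five i = m := by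
  rcases (isL_iff m).1 hm with rfl | h
  · exact ⟨0, rfl⟩
  · exact five_of_A hm (mem_A_of_comm_u h ((comm_u_iff m).2 hc))

end M

variable {G : Type*} [Group G]

namespace Emb

variable {t : G}

/-- The same embedding at an equal element. -/
def cast (E : Emb t) {t' : G} (h : t = t') : Emb t' :=
  { hom := E.hom, inj := E.inj, range_eq := h ▸ E.range_eq, map_z := h ▸ E.map_z }

lemma cast_hom (E : Emb t) {t' : G} (h : t = t') : (E.cast h).hom = E.hom := rfl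

/-- The fusion pattern. -/
structure Fused (E : Emb t) : Prop where
  u_conj : IsConj t (E.hom M.u)
  u'_conj : IsConj (E.hom M.q) (E.hom M.u')

lemma Fused.conj {E : Emb t} (h : E.Fused) (g : G) : (E.conj g).Fused := by
  have key : ∀ {a b : G}, IsConj a b → IsConj (g * a * g⁻¹) (g * b * g⁻¹) := fun hab =>
    ((isConj_iff.2 ⟨g, rfl⟩ : IsConj _ _).symm.trans hab).trans (isConj_iff.2 ⟨g, rfl⟩)
  exact ⟨key h.u_conj, key h.u'_conj⟩

lemma Fused.cast {E : Emb t} (h : E.Fused) {t' : G} (e : t = t') : (E.cast e).Fused := by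
  subst e
  exact h

variable (E : Emb t) (ht : orderOf t = 2) [Finite G] (hF : E.Fused)
include ht hF

lemma conj_of_L {m : M} (h : M.IsL m) : IsConj t (E.hom m) := by
  rcases (M.isL_iff m).1 h with rfl | h
  · rw [E.map_z]
  · exact hF.u_conj.trans (E.isConj_of (M.conj_U h))

omit ht in
lemma conj_of_R {m : M} (h : M.IsR m) : IsConj (E.hom M.q) (E.hom m) := by
  rcases (M.isR_iff m).1 h with h | h
  · exact E.isConj_of (M.conj_Q h)
  · exact hF.u'_conj.trans (E.isConj_of (M.conj_Up h))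

lemma conj_iff (m : M) : (IsConj t (E.hom m) ↔ M.IsL m) ∧ (IsConj (E.hom M.q) (E.hom m) ↔ M.IsR m) := by
  have h2q : orderOf (E.hom M.q) = 2 := E.two_hom.2 ((M.invol_iff _).2 (Or.inr M.isR_q))
  refine ⟨⟨fun h => ?_, E.conj_of_L ht hF⟩, ⟨fun h => ?_, E.conj_of_R hF⟩⟩
  · exact ((M.invol_iff m).1 (E.two_hom.1 (two_of_isConj h ht))).resolve_right fun hR =>
      E.not_isConj_q ht (h.trans (E.conj_of_R hF hR).symm)
  · exact ((M.invol_iff m).1 (E.two_hom.1 (two_of_isConj h h2q))).resolve_left fun hL =>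
      E.not_isConj_q ht ((E.conj_of_L ht hF hL).trans h.symm)

lemma class_cases {v : G} (hv : orderOf v = 2) : IsConj t v ∨ IsConj (E.hom M.q) v := by
  haveI : Fact (Nat.Prime 2) := ⟨Nat.prime_two⟩
  obtain ⟨P, hP⟩ := E.exists_sylow ht
  have hp : IsPGroup 2 (zpowers v) := IsPGroup.of_card (n := 1) (by rw [Nat.card_zpowers, hv]; rfl)
  obtain ⟨P', hP'⟩ := hp.exists_le_sylow
  obtain ⟨g, hg⟩ := MulAction.exists_smul_eq G P' P
  have hgv : g * v * g⁻¹ ∈ M.S.map E.hom := by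
    rw [← hP, ← hg]
    exact smul_mem_pointwise_smul v (MulAut.conj g) _ (hP' (mem_zpowers v))
  obtain ⟨m, -, hme⟩ := hgv
  have hc : IsConj v (E.hom m) := isConj_iff.2 ⟨g, hme.symm⟩
  rcases (M.invol_iff m).1 (E.two_hom.1 (two_of_isConj hc hv)) with h | h
  · exact Or.inl ((E.conj_of_L ht hF h).trans hc.symm)
  · exact Or.inr ((E.conj_of_R hF h).trans hc.symm)

omit ht hF
/-- The involution of the second class under consideration. -/
def cx : G := E.hom M.u'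

/-- The five elements of the first class commuting with it. -/
def Fv (i : Fin 5) : G := E.hom (M.five i)

/-- The centralizer under consideration. -/
def H : Subgroup G := centralizer ({E.cx} : Set G)

lemma mem_H {g : G} : g ∈ E.H ↔ g * E.cx = E.cx * g := mem_centralizer_singleton_iff

lemma Fv_zero : E.Fv 0 = t := E.map_z

lemma Fv_inj : Function.Injective E.Fv := E.inj.comp M.five_inj

lemma cx_eq : E.cx = t * E.Fv 1 := by
  have h : E.hom (M.five 0) * E.hom (M.five 1) = E.hom M.u' := by rw [← map_mul, M.five_u']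
  rw [show E.hom (M.five 0) = t from E.map_z] at h
  exact h.symm

lemma Fv_mem_H (i : Fin 5) : E.Fv i ∈ E.H :=
  E.mem_H.2 (E.comm_hom.2 (M.A_comm (M.five_facts i).2 M.u'_mem_A))

lemma Fv_comm (i j : Fin 5) : E.Fv i * E.Fv j = E.Fv j * E.Fv i :=
  E.comm_hom.2 (M.A_comm (M.five_facts i).2 (M.five_facts j).2)

lemma Fv_sq (i : Fin 5) : E.Fv i * E.Fv i = 1 := by
  rw [Fv, ← map_mul, (M.A_facts (M.five_facts i).2).2, map_one]

include E in
lemma t_sq : t * t = 1 := by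
  have h := E.Fv_sq 0
  rwa [E.Fv_zero] at h

lemma t_mem_H : t ∈ E.H := by
  have h := E.Fv_mem_H 0
  rwa [E.Fv_zero] at h

lemma cx_mem_H : E.cx ∈ E.H := E.mem_H.2 rfl

lemma cx_sq : E.cx * E.cx = 1 := by rw [cx, ← map_mul, (M.A_facts M.u'_mem_A).2, map_one]

lemma comm_Fv_one_iff {g : G} (hg : g ∈ E.H) : g * E.Fv 1 = E.Fv 1 * g ↔ g * t = t * g := by
  have hx := E.mem_H.1 hg
  have e1 : E.Fv 1 = t * E.cx := by
    rw [cx_eq, ← mul_assoc, E.t_sq, one_mul]
  have e2 : t = E.cx * E.Fv 1 := by rw [cx_eq, mul_assoc, E.Fv_sq, mul_one]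
  constructor
  · intro h
    calc g * t = g * E.cx * E.Fv 1 := by rw [mul_assoc, ← e2]
      _ = E.cx * (g * E.Fv 1) := by rw [hx, mul_assoc]
      _ = E.cx * E.Fv 1 * g := by rw [h, mul_assoc]
      _ = t * g := by rw [← e2]
  · intro h
    rw [e1]
    calc g * (t * E.cx) = t * (g * E.cx) := by rw [← mul_assoc, h, mul_assoc]
      _ = t * E.cx * g := by rw [hx, mul_assoc]

include ht hF

omit [Finite G] hF in
lemma two_Fv (i : Fin 5) : orderOf (E.Fv i) = 2 :=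
  E.two_hom.2 ((M.invol_iff _).2 (Or.inl (M.five_facts i).1))

lemma conj_Fv (i : Fin 5) : IsConj t (E.Fv i) := E.conj_of_L ht hF (M.five_facts i).1

omit ht in
lemma conj_cx : IsConj (E.hom M.q) E.cx := hF.u'_conj

lemma eq_Fv {v : G} (hv : IsConj t v) (hct : v * t = t * v) (hcx : v ∈ E.H) : ∃ i, E.Fv i = v := by
  obtain ⟨m, rfl⟩ := E.mem_iff.1 hct
  obtain ⟨i, rfl⟩ := M.five_of_comm ((E.conj_iff ht hF m).1.1 hv) (E.comm_hom.1 (E.mem_H.1 hcx))
  exact ⟨i, rfl⟩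

/-- An embedding at one of the three other points taking `q` to the involution under consideration. -/
lemma exists_frame {w : Fin 5} (h0 : w ≠ 0) (h1 : w ≠ 1) :
    ∃ E' : Emb (E.Fv w), E'.Fused ∧ E'.hom M.q = E.cx := by
  obtain ⟨g, hg⟩ := isConj_iff.1 (E.conj_Fv ht hF w)
  let E₁ := (E.conj g).cast hg
  have hF₁ : E₁.Fused := (hF.conj g).cast hg
  have ht₁ : orderOf (E.Fv w) = 2 := E.two_Fv ht w
  obtain ⟨m, hm⟩ := E₁.mem_iff.1 (E.mem_H.1 (E.Fv_mem_H w)).symm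
  have hq₁ : IsConj (E.hom M.q) (E₁.hom M.q) := isConj_iff.2 ⟨g, rfl⟩
  have hmR : M.IsR m := by
    refine (E₁.conj_iff ht₁ hF₁ m).2.1 ?_
    rw [hm]
    exact hq₁.symm.trans (E.conj_cx hF)
  have hmzR : M.IsR (M.z * m) := by
    refine (E₁.conj_iff ht₁ hF₁ _).2.1 ?_
    rw [map_mul, E₁.map_z, hm]
    show IsConj (E₁.hom M.q) (E.hom (M.five w) * E.hom M.u')
    rw [← map_mul]
    exact hq₁.symm.trans (E.conj_of_R hF (M.five_mul_u' h0 h1))
  have hmQ : isQ m.val = true := by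
    refine ((M.isR_iff m).1 hmR).resolve_right fun h => ?_
    obtain ⟨c, hc⟩ := isConj_iff.1 (M.conj_Up h)
    have e : M.z * m = c * M.u * c⁻¹ := by
      have hzz : M.z * M.z = 1 := (M.A_facts M.z_mem_A).2
      calc M.z * m = M.z * c * (M.z * M.u) * c⁻¹ := by rw [← hc, M.z_mul_u]; group
        _ = c * M.z * (M.z * M.u) * c⁻¹ := by rw [M.comm_z]
        _ = c * (M.z * M.z) * M.u * c⁻¹ := by group
        _ = c * M.u * c⁻¹ := by rw [hzz, mul_one]
    refine M.not_isL_and_isR ?_ hmzR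
    refine (E₁.conj_iff ht₁ hF₁ _).1.1 ?_
    rw [e]
    exact hF₁.u_conj.trans (E₁.isConj_of (isConj_iff.2 ⟨c, rfl⟩))
  obtain ⟨c, hc⟩ := isConj_iff.1 (M.conj_Q hmQ)
  have he : E₁.hom c * E.Fv w * (E₁.hom c)⁻¹ = E.Fv w := by rw [E₁.comm c, mul_inv_cancel_right]
  refine ⟨(E₁.conj (E₁.hom c)).cast he, (hF₁.conj _).cast he, ?_⟩
  rw [cast_hom, conj_apply, ← map_inv, ← map_mul, ← map_mul, hc, hm]

/-- The five points seen from a frame. -/
lemma frame_five {w : Fin 5} {E' : Emb (E.Fv w)} (hF' : E'.Fused) (hq : E'.hom M.q = E.cx) :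
    ∃ σ : Fin 5 → Fin 5, Function.Bijective σ ∧ (∀ j, E'.hom (M.five j) = E.Fv (σ j)) ∧ σ 0 = w ∧
      (∀ v, IsConj t v → v * E.Fv w = E.Fv w * v → v ∈ E.H → ∃ i, E.Fv i = v) ∧
      ((σ 3 = 0 ∧ σ 4 = 1) ∨ (σ 3 = 1 ∧ σ 4 = 0)) := by
  have ht' := E.two_Fv ht w
  have hset : ∀ v, IsConj t v → v * E.Fv w = E.Fv w * v → v ∈ E.H → ∃ j, E'.hom (M.five j) = v := by
    intro v hv hcw hcx
    obtain ⟨m, rfl⟩ := E'.mem_iff.1 hcw
    have hL : M.IsL m := (E'.conj_iff ht' hF' m).1.1 ((E.conj_Fv ht hF w).symm.trans hv)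
    have hc : m * M.q = M.q * m := E'.comm_hom.1 (by rw [hq]; exact E.mem_H.1 hcx)
    obtain ⟨j, rfl⟩ := (M.isL_comm_q m).1 ⟨hL, hc⟩
    exact ⟨j, rfl⟩
  choose f hf using fun k => hset (E.Fv k) (E.conj_Fv ht hF k) (E.Fv_comm k w) (E.Fv_mem_H k)
  have hfb : Function.Bijective f := Finite.injective_iff_bijective.1 fun a b h =>
    E.Fv_inj (by rw [← hf a, h, hf b])
  obtain ⟨σ, hσ⟩ := hfb.2.hasRightInverse
  have hσ' : ∀ j, E'.hom (M.five j) = E.Fv (σ j) := fun j => by rw [← hf (σ j), hσ j]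
  refine ⟨σ, Finite.injective_iff_bijective.1 hσ.injective, hσ', ?_, fun v hv hcw hcx => ?_, ?_⟩
  · exact E.Fv_inj (by rw [← hσ' 0]; exact E'.map_z)
  · obtain ⟨j, hj⟩ := hset v hv hcw hcx
    exact ⟨σ j, by rw [← hσ', hj]⟩
  · refine M.five_pair_u' (σ 3) (σ 4) (E.inj ?_)
    rw [map_mul]
    show E.Fv (σ 3) * E.Fv (σ 4) = E.cx
    rw [← hσ', ← hσ', ← map_mul, M.five_pair_q, hq]

/-- The centralizer of one of the three other points in `H`. -/
lemma card_R {w : Fin 5} (h0 : w ≠ 0) (h1 : w ≠ 1) :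
    Nat.card ↥(centralizer ({E.Fv w} : Set G) ⊓ E.H) = 32 := by
  obtain ⟨E', -, hq⟩ := E.exists_frame ht hF h0 h1
  rw [H, ← hq, E'.card_inf_cent, M.card_cent_q]

lemma card_centt : Nat.card ↥(centralizer ({t} : Set G) ⊓ E.H) = 48 := by
  rw [H, cx, E.card_inf_cent, M.card_cent_u']

/-- The elements of the first class in such a centralizer. -/
lemma mem_R {w : Fin 5} (h0 : w ≠ 0) (h1 : w ≠ 1) {v : G} (hv : IsConj t v)
    (hR : v ∈ centralizer ({E.Fv w} : Set G) ⊓ E.H) : ∃ i, E.Fv i = v := by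
  obtain ⟨E', hF', hq⟩ := E.exists_frame ht hF h0 h1
  obtain ⟨σ, -, -, -, hall, -⟩ := E.frame_five ht hF hF' hq
  exact hall v hv (mem_centralizer_singleton_iff.1 hR.1) hR.2

omit ht hF in
lemma Fv_mem_R (w i : Fin 5) : E.Fv i ∈ centralizer ({E.Fv w} : Set G) ⊓ E.H :=
  ⟨mem_centralizer_singleton_iff.2 (E.Fv_comm i w), E.Fv_mem_H i⟩

/-- These centralizers are the Sylow subgroups of `H`. -/
lemma R_maximal {P : Subgroup G} (hP : IsPGroup 2 P) (hPH : P ≤ E.H)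
    (hRP : centralizer ({E.Fv 2} : Set G) ⊓ E.H ≤ P) : P = centralizer ({E.Fv 2} : Set G) ⊓ E.H := by
  haveI : Fact (Nat.Prime 2) := ⟨Nat.prime_two⟩
  set R := centralizer ({E.Fv 2} : Set G) ⊓ E.H with hR
  by_contra hne
  obtain ⟨n, hnP, hnR, hn⟩ := exists_normalizing hP hRP (Ne.symm hne)
  set T : Set G := {v | ∃ i : Fin 5, (i ≠ 0 ∧ i ≠ 1) ∧ E.Fv i = v} with hT
  have hstab : ∀ k ∈ P, (∀ v ∈ R, k * v * k⁻¹ ∈ R) → ∀ v ∈ T, k * v * k⁻¹ ∈ T := by
    rintro k hk hkR _ ⟨i, hi, rfl⟩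
    obtain ⟨j, hj⟩ := E.mem_R ht hF (by decide) (by decide)
      ((E.conj_Fv ht hF i).trans (isConj_iff.2 ⟨k, rfl⟩)) (hkR _ (E.Fv_mem_R 2 i))
    refine ⟨j, ?_, hj⟩
    have hcard : Nat.card ↥(centralizer ({E.Fv j} : Set G) ⊓ E.H) = 32 := by
      rw [← E.card_R ht hF hi.1 hi.2]
      have hcx : k * E.cx * k⁻¹ = E.cx := by rw [E.mem_H.1 (hPH hk), mul_inv_cancel_right]
      have hmap : (centralizer ({E.Fv i} : Set G) ⊓ E.H).map (MulAut.conj k).toMonoidHom =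
          centralizer ({E.Fv j} : Set G) ⊓ E.H := by
        ext g
        simp only [mem_map, mem_inf, mem_H, mem_centralizer_singleton_iff]
        rw [hj]
        constructor
        · rintro ⟨y, ⟨hy1, hy2⟩, rfl⟩
          show k * y * k⁻¹ * (k * E.Fv i * k⁻¹) = k * E.Fv i * k⁻¹ * (k * y * k⁻¹) ∧
            k * y * k⁻¹ * E.cx = E.cx * (k * y * k⁻¹)
          refine ⟨by rw [conj_mul, conj_mul, hy1], ?_⟩
          calc k * y * k⁻¹ * E.cx = k * y * k⁻¹ * (k * E.cx * k⁻¹) := by rw [hcx]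
            _ = k * E.cx * k⁻¹ * (k * y * k⁻¹) := by rw [conj_mul, conj_mul, hy2]
            _ = _ := by rw [hcx]
        · rintro ⟨hg1, hg2⟩
          refine ⟨k⁻¹ * g * k, ⟨?_, ?_⟩, by show k * (k⁻¹ * g * k) * k⁻¹ = g; group⟩
          · calc k⁻¹ * g * k * E.Fv i = k⁻¹ * (g * (k * E.Fv i * k⁻¹)) * k := by group
              _ = E.Fv i * (k⁻¹ * g * k) := by rw [hg1]; group
          · have hx' : k⁻¹ * E.cx * k = E.cx := by rw [mul_assoc, ← E.mem_H.1 (hPH hk), inv_mul_cancel_left]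
            calc k⁻¹ * g * k * E.cx = k⁻¹ * g * k * (k⁻¹ * E.cx * k) := by rw [hx']
              _ = k⁻¹ * E.cx * k * (k⁻¹ * g * k) := by
                rw [show k⁻¹ * g * k * (k⁻¹ * E.cx * k) = k⁻¹ * (g * E.cx) * k by group, hg2]; group
              _ = _ := by rw [hx']
      rw [← hmap, card_map_of_injective (MulAut.conj k).injective]
    constructor <;> rintro rfl
    · rw [E.Fv_zero, E.card_centt ht hF] at hcard
      norm_num at hcard
    · have : centralizer ({E.Fv 1} : Set G) ⊓ E.H = centralizer ({t} : Set G) ⊓ E.H := by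
        ext g
        simp only [mem_inf, mem_centralizer_singleton_iff]
        exact ⟨fun h => ⟨(E.comm_Fv_one_iff h.2).1 h.1, h.2⟩, fun h => ⟨(E.comm_Fv_one_iff h.2).2 h.1, h.2⟩⟩
      rw [this, E.card_centt ht hF] at hcard
      norm_num at hcard
  let K := P ⊓ normalizer (R : Set G)
  have hKT : ∀ (k : K) (v : G), v ∈ T → (k : G) * v * (k : G)⁻¹ ∈ T := fun k v hv =>
    hstab k k.2.1 (fun r hr => ((mem_normalizer_iff.1 k.2.2) r).1 hr) v hv
  let act : MulAction K T :=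
    { smul := fun k v => ⟨(k : G) * v.1 * (k : G)⁻¹, hKT k v.1 v.2⟩
      one_smul := fun v => Subtype.ext (show ((1 : K) : G) * v.1 * ((1 : K) : G)⁻¹ = v.1 by simp)
      mul_smul := fun k l v => Subtype.ext (show ((k * l : K) : G) * v.1 * ((k * l : K) : G)⁻¹ =
        (k : G) * ((l : G) * v.1 * (l : G)⁻¹) * (k : G)⁻¹ by push_cast; group) }
  have hcardT : Nat.card T = 3 := by
    rw [← Nat.card_congr (Equiv.ofBijective
      (fun i : {i : Fin 5 // i ≠ 0 ∧ i ≠ 1} => (⟨E.Fv i.1, i.1, i.2, rfl⟩ : T))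
      ⟨fun a b h => Subtype.ext (E.Fv_inj (congrArg Subtype.val h)),
        by rintro ⟨_, i, hi, rfl⟩; exact ⟨⟨i, hi⟩, rfl⟩⟩), Nat.card_eq_fintype_card]
    rfl
  obtain ⟨⟨_, i, hi, rfl⟩, hfix⟩ := (hP.to_le (inf_le_left : K ≤ P)).nonempty_fixed_point_of_prime_not_dvd_card
    T (by rw [hcardT]; norm_num)
  have hK : K ≤ centralizer ({E.Fv i} : Set G) ⊓ E.H := fun k hk =>
    ⟨mem_centralizer_singleton_iff.2 (mul_inv_eq_iff_eq_mul.1 (congrArg Subtype.val (hfix ⟨k, hk⟩))),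
      hPH hk.1⟩
  have hRK : R ≤ K := le_inf hRP le_normalizer
  have hnK : n ∈ K := ⟨hnP, mem_normalizer_fintype fun r hr => hn r hr⟩
  have : R = K := eq_of_le_of_card_ge hRK
    ((card_le_of_le hK).trans (by rw [E.card_R ht hF hi.1 hi.2, hR, E.card_R ht hF (by decide) (by decide)]))
  exact hnR (this ▸ hnK)

/-- The Sylow subgroup of `H`. -/
lemma exists_sylow_H : ∃ P : Sylow 2 E.H, ∀ g : E.H, g ∈ P ↔ (g : G) * E.Fv 2 = E.Fv 2 * g := by
  haveI : Fact (Nat.Prime 2) := ⟨Nat.prime_two⟩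
  set R := centralizer ({E.Fv 2} : Set G) ⊓ E.H with hR
  have hp : IsPGroup 2 (R.subgroupOf E.H) :=
    IsPGroup.of_card (n := 5) (by
      rw [Nat.card_congr (subgroupOfEquivOfLe (inf_le_right : R ≤ E.H)).toEquiv,
        E.card_R ht hF (by decide) (by decide)]; norm_num)
  obtain ⟨P, hP⟩ := hp.exists_le_sylow
  have hmax := E.R_maximal ht hF (P := (P : Subgroup E.H).map E.H.subtype) (P.isPGroup'.map _)
    (map_subtype_le _) (fun g hg => ⟨⟨g, hg.2⟩, hP hg, rfl⟩)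
  refine ⟨P, fun g => ⟨fun hg => ?_, fun hg => hP ⟨mem_centralizer_singleton_iff.2 hg, g.2⟩⟩⟩
  have : (g : G) ∈ (P : Subgroup E.H).map E.H.subtype := mem_map_of_mem _ hg
  rw [hmax] at this
  exact mem_centralizer_singleton_iff.1 this.1

/-- An element of the first class in `H` is conjugate in `H` to one of the five. -/
lemma conj_to_five {v : G} (hv : IsConj t v) (hvH : v ∈ E.H) :
    ∃ h ∈ E.H, ∃ i, E.Fv i = h * v * h⁻¹ := by
  haveI : Fact (Nat.Prime 2) := ⟨Nat.prime_two⟩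
  obtain ⟨P, hP⟩ := E.exists_sylow_H ht hF
  have hp : IsPGroup 2 (zpowers (⟨v, hvH⟩ : E.H)) := IsPGroup.of_card (n := 1) (by
    rw [Nat.card_zpowers, orderOf_mk, two_of_isConj hv ht]; rfl)
  obtain ⟨P', hP'⟩ := hp.exists_le_sylow
  obtain ⟨g, hg⟩ := MulAction.exists_smul_eq E.H P' P
  have hgv : g * ⟨v, hvH⟩ * g⁻¹ ∈ P := by
    rw [← hg]
    exact smul_mem_pointwise_smul _ (MulAut.conj g) _ (hP' (mem_zpowers _))
  exact ⟨g, g.2, E.mem_R ht hF (by decide) (by decide) (hv.trans (isConj_iff.2 ⟨g, rfl⟩))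
    ⟨mem_centralizer_singleton_iff.2 ((hP _).1 hgv), (g * ⟨v, hvH⟩ * g⁻¹ : E.H).2⟩⟩

omit hF in
/-- An element of odd order centralising two points. -/
lemma odd_centt_trivial (N : Subgroup G) {l : G} (hlN : l ∈ N) (hlH : l ∈ E.H) (hlt : l * t = t * l)
    (hN : ∀ h ∈ E.H, ∀ v ∈ N, h * v * h⁻¹ ∈ N) (hNodd : ∀ v ∈ N, v ^ 12 = 1 → v ^ 3 = 1 ∨ v ^ 3 = E.cx)
    (hl : Odd (orderOf l)) : l = 1 := by
  obtain ⟨m, rfl⟩ := E.mem_iff.1 hlt
  by_contra hne
  have hm1 : m ≠ 1 := fun h => hne (by rw [h, map_one])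
  have hd : orderOf m ∣ 12 := orderOf_dvd_of_pow_eq_one (M.pow_twelve m)
  rw [orderOf_injective E.hom E.inj] at hl
  have h9 : m ^ 9 = 1 := by
    refine orderOf_dvd_iff_pow_eq_one.1 ?_
    have hc : Nat.Coprime (orderOf m) 4 := Nat.Coprime.pow_right 2 ((Nat.coprime_two_right).2 hl)
    exact ((Nat.Coprime.dvd_of_dvd_mul_left hc (show orderOf m ∣ 4 * 3 from hd))).trans (by norm_num)
  obtain ⟨x, hx, hc1, hc2⟩ := M.odd_free_cube hm1 h9 (E.comm_hom.1 (E.mem_H.1 hlH))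
  set c := x * m * x⁻¹ * m⁻¹ with hc
  have hcN : E.hom c ∈ N := by
    rw [hc, map_mul, map_mul, map_mul, map_inv, map_inv]
    exact mul_mem (hN _ (E.mem_H.2 (E.comm_hom.2 hx)) _ hlN) (inv_mem hlN)
  rcases hNodd _ hcN (by rw [← map_pow, M.pow_twelve, map_one]) with h | h <;> rw [← map_pow] at h
  · exact hc1 (E.inj (h.trans (map_one _).symm))
  · exact hc2 (E.inj h)

/-- Glauberman's theorem: `H` fixes the pair. -/
lemma conj_t_mem {h : G} (hh : h ∈ E.H) : h * t * h⁻¹ = t ∨ h * t * h⁻¹ = E.Fv 1 := by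
  classical
  haveI : Fact (Nat.Prime 2) := ⟨Nat.prime_two⟩
  set Z := zpowers (⟨E.cx, E.cx_mem_H⟩ : E.H) with hZ
  haveI : Z.Normal := ⟨fun z hz g => by
    obtain ⟨k, rfl⟩ := mem_zpowers_iff.1 hz
    have hc : Commute g (⟨E.cx, E.cx_mem_H⟩ : E.H) := Subtype.ext (E.mem_H.1 g.2)
    rwa [(hc.zpow_right k).eq, mul_inv_cancel_right]⟩
  have hx2 : E.cx ≠ 1 := by
    rw [cx, ← map_one E.hom, ne_eq, E.eq_iff]
    exact ((M.invol_iff _).2 (Or.inr M.isR_u')).2
  have memZ : ∀ g : E.H, g ∈ Z → (g : G) = 1 ∨ (g : G) = E.cx := by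
    intro g hg
    obtain ⟨k, rfl⟩ := mem_zpowers_iff.1 hg
    push_cast
    have h2 : E.cx ^ (2 : ℤ) = 1 := by rw [zpow_two, E.cx_sq]
    rcases Int.even_or_odd k with ⟨j, rfl⟩ | ⟨j, rfl⟩
    · left; rw [← two_mul, zpow_mul, h2, one_zpow]
    · right; rw [zpow_add, zpow_mul, h2, one_zpow, one_mul, zpow_one]
  let π := QuotientGroup.mk' Z
  obtain ⟨P, hP⟩ := E.exists_sylow_H ht hF
  have hxP : (⟨E.cx, E.cx_mem_H⟩ : E.H) ∈ P := (hP _).2 (E.mem_H.1 (E.Fv_mem_H 2)).symm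
  let Pq := P.mapSurjective (f := π) (QuotientGroup.mk'_surjective Z)
  let f : Fin 5 → E.H ⧸ Z := fun i => π ⟨E.Fv i, E.Fv_mem_H i⟩
  have hf2 : ∀ i, f i * f i = 1 := fun i => by
    rw [← map_mul, ← map_one π]; exact congrArg π (Subtype.ext (E.Fv_sq i))
  have hf01 : f 0 = f 1 := by
    refine (QuotientGroup.eq (s := Z)).2 ?_
    have : (⟨E.Fv 0, E.Fv_mem_H 0⟩ : E.H)⁻¹ * ⟨E.Fv 1, E.Fv_mem_H 1⟩ = ⟨E.cx, E.cx_mem_H⟩ := by
      refine Subtype.ext ?_
      show (E.Fv 0)⁻¹ * E.Fv 1 = E.cx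
      rw [inv_eq_of_mul_eq_one_left (E.Fv_sq 0), E.Fv_zero, ← E.cx_eq]
    rw [this]; exact mem_zpowers _
  have hf0 : f 0 ≠ 1 := by
    intro h
    rcases memZ _ ((QuotientGroup.eq_one_iff _).1 h) with h' | h'
    · exact (two_iff.1 (E.two_Fv ht 0)).2 h'
    · refine E.not_isConj_q ht ?_
      have := E.conj_Fv ht hF 0
      rw [show E.Fv 0 = E.cx from h'] at this
      exact this.trans (E.conj_cx hF).symm
  have hfmem : f 0 ∈ (Pq : Subgroup (E.H ⧸ Z)) :=
    ⟨_, (hP _).2 (E.Fv_comm 0 2), rfl⟩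
  have hiso : ∀ g : E.H ⧸ Z, g * f 0 * g⁻¹ ∈ (Pq : Subgroup (E.H ⧸ Z)) → g * f 0 * g⁻¹ = f 0 := by
    intro g hg
    obtain ⟨g, rfl⟩ := QuotientGroup.mk'_surjective Z g
    obtain ⟨r, hr, hre⟩ := hg
    have hrP : g * ⟨E.Fv 0, E.Fv_mem_H 0⟩ * g⁻¹ ∈ P := by
      have : (r⁻¹ * (g * ⟨E.Fv 0, E.Fv_mem_H 0⟩ * g⁻¹) : E.H) ∈ Z := (QuotientGroup.eq (s := Z)).1 hre
      obtain ⟨k, hk⟩ := mem_zpowers_iff.1 this
      rw [inv_mul_eq_iff_eq_mul.1 hk.symm]
      exact mul_mem hr (zpow_mem hxP k)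
    set b := (g : G) * E.Fv 0 * (g : G)⁻¹ with hb
    obtain ⟨i, hi⟩ := E.mem_R ht hF (w := 2) (by decide) (by decide)
      ((E.conj_Fv ht hF 0).trans (isConj_iff.2 ⟨g, rfl⟩))
      ⟨mem_centralizer_singleton_iff.2 ((hP _).1 hrP), (g * ⟨E.Fv 0, E.Fv_mem_H 0⟩ * g⁻¹ : E.H).2⟩
    have hi01 : i = 0 ∨ i = 1 := by
      by_contra hcon
      push Not at hcon
      have hcard := E.card_R ht hF hcon.1 hcon.2
      have hmap : (centralizer ({t} : Set G) ⊓ E.H).map (MulAut.conj (g : G)).toMonoidHom ≤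
          centralizer ({E.Fv i} : Set G) ⊓ E.H := by
        rintro _ ⟨y, ⟨hy1, hy2⟩, rfl⟩
        refine ⟨mem_centralizer_singleton_iff.2 ?_, E.H.mul_mem (E.H.mul_mem g.2 hy2) (E.H.inv_mem g.2)⟩
        show (g : G) * y * (g : G)⁻¹ * E.Fv i = E.Fv i * ((g : G) * y * (g : G)⁻¹)
        rw [hi, E.Fv_zero, conj_mul, conj_mul, mem_centralizer_singleton_iff.1 hy1]
      have h48 := card_le_of_le hmap
      rw [hcard, card_map_of_injective (MulAut.conj (g : G)).injective, E.card_centt ht hF] at h48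
      omega
    have e : π g * f 0 * (π g)⁻¹ = f i := by
      rw [← map_inv, ← map_mul, ← map_mul]
      exact congrArg π (Subtype.ext hi.symm)
    rcases hi01 with rfl | rfl
    · exact e
    · rw [e, hf01]
  obtain ⟨N, hN, hodd, hcomm⟩ := S0215.result Pq (f 0) (orderOf_eq_prime (by rw [sq, hf2]) hf0) hfmem hiso
  haveI := hN
  obtain ⟨K, hK⟩ := hodd
  have hpowN : ∀ n ∈ N, n ^ (2 * K + 1) = 1 := fun n hn => by
    rw [← hK]; exact congrArg Subtype.val (pow_card_eq_one' (G := N) (x := ⟨n, hn⟩))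
  have hsq1 : ∀ n ∈ N, n * n = 1 → n = 1 := fun n hn h => by
    have h1 := hpowN n hn
    rw [pow_succ, pow_mul, sq, h, one_pow, one_mul] at h1
    exact h1
  -- no fixed points on `N`
  have hfix : ∀ i, ∀ n ∈ N, f i * n = n * f i → n = 1 := by
    intro i n hn hc
    obtain ⟨l, rfl⟩ := QuotientGroup.mk'_surjective Z n
    have hz : (⟨E.Fv i, E.Fv_mem_H i⟩ * l)⁻¹ * (l * ⟨E.Fv i, E.Fv_mem_H i⟩) ∈ Z :=
      (QuotientGroup.eq (s := Z)).1 (show π _ = π _ by rw [map_mul, map_mul]; exact hc)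
    set e := ((⟨E.Fv i, E.Fv_mem_H i⟩ * l)⁻¹ * (l * ⟨E.Fv i, E.Fv_mem_H i⟩) : E.H) with he
    have hle : (l : G) * E.Fv i = E.Fv i * l * e := by
      rw [he]; push_cast; group
    have hl2 : ((l * l : E.H) : G) * E.Fv i = E.Fv i * ((l * l : E.H) : G) := by
      rcases memZ e hz with h | h <;> rw [h] at hle
      · rw [mul_one] at hle
        push_cast
        rw [mul_assoc, hle, ← mul_assoc, hle, mul_assoc]
      · push_cast
        calc (l : G) * l * E.Fv i = l * (E.Fv i * l * E.cx) := by rw [mul_assoc, hle]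
          _ = (l * E.Fv i) * l * E.cx := by group
          _ = E.Fv i * l * E.cx * l * E.cx := by rw [hle]
          _ = E.Fv i * l * (E.cx * l) * E.cx := by group
          _ = E.Fv i * l * (l * E.cx) * E.cx := by rw [E.mem_H.1 l.2]
          _ = E.Fv i * (l * l) * (E.cx * E.cx) := by group
          _ = E.Fv i * (l * l) := by rw [E.cx_sq, mul_one]
    have hlodd : Odd (orderOf ((l * l : E.H) : G)) := by
      have h1 : l ^ (2 * K + 1) ∈ Z := (QuotientGroup.eq_one_iff _).1 (by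
        show π (l ^ (2 * K + 1)) = 1
        rw [map_pow]; exact hpowN _ hn)
      refine Odd.of_dvd_nat (odd_two_mul_add_one K) (orderOf_dvd_of_pow_eq_one ?_)
      have h2 : ((l * l : E.H) : G) ^ (2 * K + 1) = ((l ^ (2 * K + 1) : E.H) : G) ^ 2 := by
        push_cast
        rw [← sq, ← pow_mul, ← pow_mul, mul_comm]
      rcases memZ _ h1 with h | h <;> rw [h2, h, sq]
      · rw [one_mul]
      · rw [E.cx_sq]
    have h2 : ((l * l : E.H) : G) = 1 := by
      by_cases hi : i = 0 ∨ i = 1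
      · have hlt : ((l * l : E.H) : G) * t = t * ((l * l : E.H) : G) := by
          rcases hi with rfl | rfl
          · rwa [E.Fv_zero] at hl2
          · exact (E.comm_Fv_one_iff (l * l).2).1 hl2
        refine E.odd_centt_trivial ht ((N.comap π).map E.H.subtype) ⟨l * l, ?_, rfl⟩ (l * l).2 hlt ?_ ?_ hlodd
        · show π (l * l) ∈ N
          rw [map_mul]; exact mul_mem hn hn
        · rintro h hh _ ⟨v, hv, rfl⟩
          refine ⟨⟨h, hh⟩ * v * ⟨h, hh⟩⁻¹, ?_, rfl⟩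
          show π _ ∈ N
          rw [map_mul, map_mul, map_inv]
          exact hN.conj_mem _ hv _
        · rintro _ ⟨v, hv, rfl⟩ h12
          have hv12 : v ^ 12 = 1 := Subtype.ext (by push_cast; exact h12)
          have h3 : (π v) ^ 3 = 1 := by
            refine orderOf_dvd_iff_pow_eq_one.1 ?_
            have hodd : Odd (orderOf (π v)) :=
              Odd.of_dvd_nat (odd_two_mul_add_one K) (orderOf_dvd_of_pow_eq_one (hpowN _ hv))
            have hd : orderOf (π v) ∣ 4 * 3 :=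
              orderOf_dvd_of_pow_eq_one (by rw [← map_pow, hv12, map_one])
            exact Nat.Coprime.dvd_of_dvd_mul_left
              (Nat.Coprime.pow_right 2 (Nat.coprime_two_right.2 hodd)) hd
          rw [← map_pow] at h3
          have := memZ _ ((QuotientGroup.eq_one_iff _).1 h3)
          push_cast at this
          exact this
      · push Not at hi
        obtain ⟨k, hk⟩ : ∃ k, orderOf ((l * l : E.H) : G) = 2 ^ k := by
          have hR : IsPGroup 2 ↥(centralizer ({E.Fv i} : Set G) ⊓ E.H) :=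
            IsPGroup.of_card (n := 5) (by rw [E.card_R ht hF hi.1 hi.2]; norm_num)
          obtain ⟨k, hk⟩ := IsPGroup.iff_orderOf.1 hR
            ⟨_, mem_centralizer_singleton_iff.2 hl2, (l * l).2⟩
          exact ⟨k, by rw [← hk, ← Subgroup.orderOf_coe]⟩
        rcases Nat.eq_zero_or_pos k with rfl | hk0
        · exact orderOf_eq_one_iff.1 hk
        · rw [hk] at hlodd
          exact absurd hlodd (Nat.not_odd_iff_even.2 (Nat.even_pow.2 ⟨even_two, hk0.ne'⟩))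
    refine hsq1 _ hn ?_
    rw [← map_mul, show l * l = 1 from Subtype.ext h2, map_one]
  have hinv : ∀ i, ∀ n ∈ N, f i * n * f i = n⁻¹ := by
    intro i
    have hfi : (f i)⁻¹ = f i := inv_eq_of_mul_eq_one_left (hf2 i)
    have hc : ∀ n ∈ N, f i * n * f i ∈ N := fun n hn => by
      have := hN.conj_mem n hn (f i); rwa [hfi] at this
    let d : N → N := fun n => ⟨(n : E.H ⧸ Z)⁻¹ * (f i * n * f i), mul_mem (inv_mem n.2) (hc n n.2)⟩
    have hd : Function.Injective d := by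
      intro a b h
      have h' : (a : E.H ⧸ Z)⁻¹ * (f i * a * f i) = (b : E.H ⧸ Z)⁻¹ * (f i * b * f i) := congrArg Subtype.val h
      have hfa : f i * ((b : E.H ⧸ Z) * (a : E.H ⧸ Z)⁻¹) = ((b : E.H ⧸ Z) * (a : E.H ⧸ Z)⁻¹) * f i := by
        calc f i * ((b : E.H ⧸ Z) * (a : E.H ⧸ Z)⁻¹)
            = (f i * b * f i) * (f i * a * f i)⁻¹ * f i := by group
          _ = (b : E.H ⧸ Z) * ((b : E.H ⧸ Z)⁻¹ * (f i * b * f i)) * (f i * a * f i)⁻¹ * f i := by
              rw [mul_inv_cancel_left]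
          _ = ((b : E.H ⧸ Z) * (a : E.H ⧸ Z)⁻¹) * f i := by rw [← h']; group
      have := hfix i _ (mul_mem b.2 (inv_mem a.2)) hfa
      exact Subtype.ext (mul_inv_eq_one.1 this).symm
    intro n hn
    obtain ⟨a, ha⟩ := (Finite.injective_iff_surjective.1 hd) ⟨n, hn⟩
    have hn' : (a : E.H ⧸ Z)⁻¹ * (f i * a * f i) = n := congrArg Subtype.val ha
    rw [← hn']
    calc f i * ((a : E.H ⧸ Z)⁻¹ * (f i * a * f i)) * f i
        = f i * (a : E.H ⧸ Z)⁻¹ * f i * a * (f i * f i) := by group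
      _ = ((a : E.H ⧸ Z)⁻¹ * (f i * a * f i))⁻¹ := by
        rw [hf2, mul_one, show ((a : E.H ⧸ Z)⁻¹ * (f i * a * f i))⁻¹ = (f i)⁻¹ * (a : E.H ⧸ Z)⁻¹ * (f i)⁻¹ * a by
          group, hfi]
  have hNbot : ∀ n ∈ N, n = 1 := by
    intro n hn
    have hprod : f 0 * f 1 * f 2 * f 3 * f 4 = 1 := by
      simp only [f, ← map_mul]
      rw [← map_one π]
      refine congrArg π (Subtype.ext ?_)
      show E.Fv 0 * E.Fv 1 * E.Fv 2 * E.Fv 3 * E.Fv 4 = 1
      simp only [Fv, ← map_mul, M.five_prod, map_one]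
    refine hsq1 n hn ?_
    have h1 := hinv 4 n hn
    have h2 := hinv 3 _ (inv_mem hn)
    have h3 := hinv 2 n hn
    have h4 := hinv 1 _ (inv_mem hn)
    have h5 := hinv 0 n hn
    rw [inv_inv] at h2 h4
    have key : f 0 * f 1 * f 2 * f 3 * f 4 * n * (f 4 * f 3 * f 2 * f 1 * f 0) = n⁻¹ := by
      calc f 0 * f 1 * f 2 * f 3 * f 4 * n * (f 4 * f 3 * f 2 * f 1 * f 0)
          = f 0 * f 1 * f 2 * f 3 * (f 4 * n * f 4) * f 3 * f 2 * f 1 * f 0 := by group
        _ = f 0 * f 1 * f 2 * (f 3 * n⁻¹ * f 3) * f 2 * f 1 * f 0 := by rw [h1]; group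
        _ = f 0 * f 1 * (f 2 * n * f 2) * f 1 * f 0 := by rw [h2]; group
        _ = f 0 * (f 1 * n⁻¹ * f 1) * f 0 := by rw [h3]; group
        _ = n⁻¹ := by rw [h4, h5]
    have hrev : f 4 * f 3 * f 2 * f 1 * f 0 = 1 := by
      have : (f 4 * f 3 * f 2 * f 1 * f 0) = (f 0 * f 1 * f 2 * f 3 * f 4)⁻¹ := by
        simp only [mul_inv_rev, inv_eq_of_mul_eq_one_left (hf2 _), mul_assoc]
      rw [this, hprod, inv_one]
    rw [hprod, hrev, one_mul, mul_one] at key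
    exact mul_eq_one_iff_eq_inv.2 key
  have hc := hNbot _ (hcomm (π ⟨h, hh⟩))
  rw [mul_inv_eq_one, mul_inv_eq_iff_eq_mul] at hc
  have hz : (⟨E.Fv 0, E.Fv_mem_H 0⟩ : E.H)⁻¹ * (⟨h, hh⟩ * ⟨E.Fv 0, E.Fv_mem_H 0⟩ * ⟨h, hh⟩⁻¹) ∈ Z :=
    (QuotientGroup.eq (s := Z)).1 (show π _ = π _ by
      rw [map_mul, map_mul, map_inv, ← hc, mul_inv_cancel_right])
  rcases memZ _ hz with h' | h' <;> push_cast at h' <;> rw [inv_mul_eq_iff_eq_mul, E.Fv_zero] at h'
  · rw [mul_one] at h'; exact Or.inl h'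
  · refine Or.inr ?_
    rw [h', cx_eq, ← mul_assoc, (two_iff.1 ht).1, one_mul]

end Emb

end Cfsg.Agent.H31.UFour
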