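import Cfsg.Agent.H31.UFour.Model

/-!
Checked facts on the group of 576 labels: involution classes, the Sylow subgroup, its elementary abelian
subgroup of order 16, and counts.
-/

set_option autoImplicit false
set_option maxRecDepth 20000
set_option maxHeartbeats 0

namespace Cfsg.Agent.H31.UFour

/-- The swapped elements `(a, a⁻¹)`. -/
def isU (n : ℕ) : Bool := ps n == 1 && pb n == slInv (pa n)
/-- The swapped elements `(a, -a⁻¹)`. -/
def isUp (n : ℕ) : Bool := ps n == 1 && pb n == (slInv (pa n) + 12) % 24
/-- Pairs of elements of order four. -/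
def isQ (n : ℕ) : Bool := ps n == 0 && slMul (pa n) (pa n) == 12 && slMul (pb n) (pb n) == 12
/-- The class of the centre, inside the model. -/
def isL (n : ℕ) : Bool := n == 24 || isU n
/-- The other class. -/
def isR (n : ℕ) : Bool := isQ n || isUp n
/-- Involutions. -/
def isInv (n : ℕ) : Bool := nmul n n == 0 && !(n == 0)
/-- Commuting labels. -/
def cm (a b : ℕ) : Bool := nmul a b == nmul b a
/-- Conjugate of a label. -/
def cj (g x : ℕ) : ℕ := nmul (nmul g x) (ninv g)
/-- The Sylow subgroup. -/
def isS (n : ℕ) : Bool :=
  [0, 1, 7, 11].contains (pa n % 12) && [0, 12, 1, 7, 11, 13, 19, 23].contains (pb n)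
/-- The elements of the elementary abelian subgroup of order 16, by coordinates. -/
def elList : List ℕ := [0, 24, 1, 25, 50, 74, 51, 75, 350, 374, 351, 375, 550, 574, 551, 575]
/-- An element of the elementary abelian subgroup. -/
def elN (i : ℕ) : ℕ := elList.getD i 0
/-- Membership in the elementary abelian subgroup. -/
def isA (n : ℕ) : Bool := elList.contains n
/-- The labels without swap. -/
def isC0 (n : ℕ) : Bool := ps n == 0
/-- A power of a label. -/
def npow : ℕ → ℕ → ℕ
  | _, 0 => 0
  | a, k + 1 => nmul (npow a k) a
/-- A label is a power of another. -/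
def inPow (w x : ℕ) : Bool := (List.range 12).any fun k => npow w k == x
/-- A Bool predicate is a subgroup. -/
def closedP (p : ℕ → Bool) : Bool :=
  p 0 && (List.range 576).all fun a => !(p a) ||
    (p (ninv a) && ((List.range 576).filter p).all fun b => p (nmul a b))
/-- The five lines in the centralizer of the label 50. -/
def fiveList : List ℕ := [24, 1, 75, 375, 575]

lemma closed_checks :
    closedP isS = true ∧ closedP isA = true ∧ closedP isC0 = true ∧
    ((List.range 576).filter isS).length = 64 ∧ ((List.range 576).filter isA).length = 16 ∧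
    ((List.range 576).filter isC0).length = 288 := by
  decide +kernel

lemma label_checks :
    ((List.range 576).all fun m =>
      (isInv m == (isL m || isR m)) && !(isL m && isR m) && cm m 24 && npow m 12 == 0 &&
      (!(isC0 m) || !(isU m || isUp m)) && (!(isS m && isU m) || isA m) &&
      (!(isS m) || isA (nmul m m)) && (!(isA m) || (isS m && nmul m m == 0)) &&
      (!(isA m) || m == 0 || isInv m)) = true := by
  decide +kernel

lemma conj_checks :
    ((List.range 576).all fun m =>
      (!(isU m) || (List.range 576).any fun g => nmul g 1 == nmul m g) &&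
      (!(isUp m) || (List.range 576).any fun g => nmul g 25 == nmul m g) &&
      (!(isQ m) || (List.range 576).any fun g => nmul g 50 == nmul m g)) = true := by
  decide +kernel

lemma cent_checks :
    ((List.range 576).filter fun x => cm x 1).length = 48 ∧
    ((List.range 576).filter fun x => cm x 25).length = 48 ∧
    ((List.range 576).filter fun x => cm x 50).length = 32 ∧
    ((List.range 576).all fun x => cm x 1 == cm x 25) = true := by
  decide +kernel

lemma center_checks :
    ((List.range 576).all fun m => !(isS m) || m == 0 || m == 24 ||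
      ((List.range 576).filter isS).any fun x => !(cm m x)) = true ∧
    ((List.range 576).all fun m => m == 0 || m == 24 ||
      ((List.range 576).filter isU).any fun x => !(cm m x)) = true ∧
    ((List.range 576).all fun m => isA m || elList.any fun x => !(cm m x)) = true ∧
    (elList.all fun a => elList.all fun b => cm a b) = true := by
  decide +kernel

lemma elem_checks :
    ((List.range 576).all fun y => !(isS y && isInv y) || isA y ||
      Nat.blt ((List.range 576).filter fun x => isS x && isInv x && cm x y).length 14) = true := by
  decide +kernel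

lemma unique_checks :
    ((List.range 576).all fun c => [1, 75, 375, 575].all fun u =>
      !(isA (cj (ninv c) u)) || elList.all fun x => isA (cj c x)) = true ∧
    ((List.range 576).all fun w => !(isU w && cm w 1) || isA w) = true := by
  decide +kernel

lemma odd_checks :
    ((List.range 576).all fun m => m == 0 || !(npow m 9 == 0) ||
      (List.range 576).any fun x => !(npow (nmul (cj x m) (ninv m)) 9 == 0)) = true ∧
    ((List.range 576).all fun m => m == 0 || !(npow m 9 == 0) || !(cm m 1) ||
      (List.range 576).any fun x => cm x 1 && !(npow (nmul (cj x m) (ninv m)) 9 == 0)) = true := by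
  decide +kernel

lemma five_checks :
    ((List.range 576).all fun m => (isL m && cm m 50) == fiveList.contains m) = true ∧
    (fiveList.all fun a => fiveList.all fun b => !(nmul a b == 50) ||
      (a == 375 && b == 575) || (a == 575 && b == 375)) = true ∧
    nmul (nmul (nmul (nmul 24 1) 75) 375) 575 = 0 ∧ nmul 375 575 = 50 ∧
    ((List.range 576).filter fun y => isInv y && cm y 50 && !(cm y 375)).length = 4 ∧
    ((List.range 576).all fun y => !(isInv y && cm y 50 && !(cm y 375)) || (!(cm y 1) && !(cm y 75))) =
      true := by
  decide +kernel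

lemma pair_check :
    ((((List.range 576).filter isL).product ((List.range 576).filter isR)).filter
      fun p => inPow (nmul p.1 p.2) 24).length = 108 := by
  decide +kernel

/-- The permutations of the coordinates induced by the normalizer. -/
def permTabs : List (List ℕ) :=
  [[0, 1, 2, 3, 4, 5, 6, 7, 8, 9, 10, 11, 12, 13, 14, 15],
    [0, 1, 7, 6, 4, 5, 3, 2, 9, 8, 14, 15, 13, 12, 10, 11],
    [0, 1, 11, 10, 5, 4, 14, 15, 8, 9, 3, 2, 13, 12, 6, 7],
    [0, 1, 15, 14, 5, 4, 10, 11, 9, 8, 6, 7, 12, 13, 3, 2],
    [0, 1, 2, 3, 12, 13, 14, 15, 4, 5, 6, 7, 8, 9, 10, 11],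
    [0, 1, 15, 14, 12, 13, 3, 2, 5, 4, 10, 11, 9, 8, 6, 7],
    [0, 1, 11, 10, 13, 12, 6, 7, 5, 4, 14, 15, 8, 9, 3, 2],
    [0, 1, 7, 6, 13, 12, 10, 11, 4, 5, 3, 2, 9, 8, 14, 15],
    [0, 1, 2, 3, 8, 9, 10, 11, 12, 13, 14, 15, 4, 5, 6, 7],
    [0, 1, 11, 10, 8, 9, 3, 2, 13, 12, 6, 7, 5, 4, 14, 15],
    [0, 1, 7, 6, 9, 8, 14, 15, 13, 12, 10, 11, 4, 5, 3, 2],
    [0, 1, 15, 14, 9, 8, 6, 7, 12, 13, 3, 2, 5, 4, 10, 11]]

/-- Representatives in the normalizer. -/
def permReps : List ℕ := [0, 2, 14, 22, 100, 104, 112, 114, 150, 154, 156, 164]

/-- The linear map with given images of the four coordinates. -/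
def linN (a b c d n : ℕ) : ℕ :=
  (bif n.testBit 0 then a else 0) ^^^ (bif n.testBit 1 then b else 0) ^^^
    (bif n.testBit 2 then c else 0) ^^^ (bif n.testBit 3 then d else 0)

lemma coord_checks :
    ((List.range 16).all fun i => (List.range 16).all fun j =>
      elN (i ^^^ j) == nmul (elN i) (elN j)) = true ∧
    ((List.range 16).all fun i => (List.range 16).all fun j => !(elN i == elN j) || i == j) = true ∧
    ((List.range 12).all fun k => (List.range 16).all fun n =>
      cj (permReps.getD k 0) (elN n) == elN ((permTabs.getD k []).getD n 0) &&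
        Nat.blt ((permTabs.getD k []).getD n 0) 16) = true := by
  decide +kernel

/-- The composite of a candidate with two elements of the normalizer. -/
def wordN (g : ℕ → ℕ) (h k : List ℕ) (n : ℕ) : ℕ := g (h.getD (g (k.getD n 0)) 0)

lemma line_check :
    ((List.range 16).all fun b => (List.range 16).all fun c => (List.range 16).all fun d =>
      ((List.range 15).any fun n => linN 4 b c d (n + 1) == 0) ||
      permTabs.any fun h => permTabs.any fun k =>
        let f := wordN (linN 4 b c d) h k
        ((List.range 16).any fun n => !(f (f n) == n)) &&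
          (List.range 16).all fun n => f (f (f (f n))) == n) = true := by
  decide +kernel

lemma nine_check :
    ((List.range 16).all fun b => (List.range 16).all fun c => (List.range 16).all fun d =>
      ((List.range 15).any fun n => linN 2 b c d (n + 1) == 0) ||
      (List.range 16).any fun p => (isL (elN p) || isUp (elN p)) &&
        !(isL (elN (linN 2 b c d p)) || isUp (elN (linN 2 b c d p)))) = true := by
  decide +kernel

end Cfsg.Agent.H31.UFour
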