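import Cfsg.Agent.H31.UFour.Checks

/-!
Facts on the group of 576 labels in terms of the group structure.
-/

set_option autoImplicit false

namespace Cfsg.Agent.H31.UFour

namespace M

/-- The central involution. -/
def z : M := mk 24
/-- Representative of the first class of twelve. -/
def u : M := mk 1
/-- Representative of the second class of twelve. -/
def u' : M := mk 25
/-- Representative of the class of eighteen. -/
def q : M := mk 50
/-- The coordinates of the elementary abelian subgroup. -/
def el (i : ℕ) : M := mk (elN i)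

/-- The class of the centre. -/
def IsL (m : M) : Prop := isL m.val = true
/-- The other class. -/
def IsR (m : M) : Prop := isR m.val = true

lemma z_val : z.val = 24 := val_mk (by decide)
lemma u_val : u.val = 1 := val_mk (by decide)
lemma u'_val : u'.val = 25 := val_mk (by decide)
lemma q_val : q.val = 50 := val_mk (by decide)

lemma el_lt : ∀ i : Fin 16, elN i < 576 := by decide

lemma el_val {i : ℕ} (hi : i < 16) : (el i).val = elN i := val_mk (el_lt ⟨i, hi⟩)

lemma cm_iff (a b : M) : cm a.val b.val = true ↔ a * b = b * a := by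
  rw [cm, beq_iff_eq, ← mul_val, ← mul_val, val_inj]

lemma cm_false (a b : M) : cm a.val b.val = false ↔ a * b ≠ b * a := by
  rw [← Bool.not_eq_true, cm_iff]

lemma cj_val (g x : M) : (g * x * g⁻¹).val = cj g.val x.val := by
  rw [mul_val, mul_val, inv_val]; rfl

lemma npow_val (a : M) (k : ℕ) : (a ^ k).val = npow a.val k := by
  induction k with
  | zero => rw [pow_zero, one_val]; rfl
  | succ k ih => rw [pow_succ, mul_val, ih]; rfl

lemma npow_eq_one (a : M) (k : ℕ) : npow a.val k = 0 ↔ a ^ k = 1 := by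
  rw [← npow_val, ← one_val, val_inj]

lemma isInv_iff (m : M) : isInv m.val = true ↔ m * m = 1 ∧ m ≠ 1 := by
  rw [isInv, Bool.and_eq_true, beq_iff_eq, Bool.not_eq_true', beq_eq_false_iff_ne, ← mul_val,
    ← one_val, val_inj, ne_eq, val_inj]

lemma exists_range {f : ℕ → Bool} (h : (List.range 576).any f = true) : ∃ a : M, f a.val = true := by
  obtain ⟨n, hn, hf⟩ := List.any_eq_true.1 h
  exact ⟨mk n, by rw [val_mk (List.mem_range.1 hn)]; exact hf⟩

/-- The subgroup of a closed predicate. -/
def subOf (p : ℕ → Bool) (h : closedP p = true) : Subgroup M where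
  carrier := {m | p m.val = true}
  one_mem' := by
    rw [closedP, Bool.and_eq_true] at h
    rw [Set.mem_ofPred_eq, one_val]; exact h.1
  mul_mem' := by
    intro a b ha hb
    rw [Set.mem_ofPred_eq] at ha hb
    rw [closedP, Bool.and_eq_true] at h
    have h1 := all_range h.2 a
    rw [ha, Bool.not_true, Bool.false_or, Bool.and_eq_true] at h1
    have h2 := List.all_eq_true.1 h1.2 b.val (List.mem_filter.2 ⟨List.mem_range.2 b.val_lt, hb⟩)
    rw [Set.mem_ofPred_eq, mul_val]; exact h2
  inv_mem' := by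
    intro a ha
    rw [Set.mem_ofPred_eq] at ha
    rw [closedP, Bool.and_eq_true] at h
    have h1 := all_range h.2 a
    rw [ha, Bool.not_true, Bool.false_or, Bool.and_eq_true] at h1
    rw [Set.mem_ofPred_eq, inv_val]; exact h1.1

lemma mem_subOf {p : ℕ → Bool} {h : closedP p = true} {m : M} : m ∈ subOf p h ↔ p m.val = true :=
  Iff.rfl

lemma card_subOf {p : ℕ → Bool} {h : closedP p = true} :
    Nat.card (subOf p h) = ((List.range 576).filter p).length :=
  card_filter (fun m => p m.val = true) _ (fun _ => Iff.rfl)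

/-- A Sylow 2-subgroup. -/
def S : Subgroup M := subOf isS closed_checks.1
/-- Its elementary abelian subgroup of order 16. -/
def A : Subgroup M := subOf isA closed_checks.2.1
/-- The subgroup of index two without swaps. -/
def C0 : Subgroup M := subOf isC0 closed_checks.2.2.1

lemma card_S : Nat.card S = 64 := card_subOf.trans closed_checks.2.2.2.1
lemma card_A : Nat.card A = 16 := card_subOf.trans closed_checks.2.2.2.2.1
lemma card_C0 : Nat.card C0 = 288 := card_subOf.trans closed_checks.2.2.2.2.2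

lemma isL_iff (m : M) : IsL m ↔ m = z ∨ isU m.val = true := by
  rw [IsL, isL, Bool.or_eq_true, beq_iff_eq, ← z_val, val_inj]

lemma isR_iff (m : M) : IsR m ↔ isQ m.val = true ∨ isUp m.val = true := by
  rw [IsR, isR, Bool.or_eq_true]

lemma invol_iff (m : M) : (m * m = 1 ∧ m ≠ 1) ↔ IsL m ∨ IsR m := by
  have h := all_range label_checks m
  simp only [Bool.and_eq_true, beq_iff_eq] at h
  have h := h.1.1.1.1.1.1.1.1
  rw [← isInv_iff, h, Bool.or_eq_true]
  rfl

lemma not_isL_and_isR {m : M} (h₁ : IsL m) (h₂ : IsR m) : False := by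
  have h := all_range label_checks m
  simp only [Bool.and_eq_true] at h
  have h := h.1.1.1.1.1.1.1.2
  rw [IsL] at h₁; rw [IsR] at h₂
  rw [h₁, h₂] at h
  simp at h

lemma comm_z (m : M) : m * z = z * m := by
  have h := all_range label_checks m
  simp only [Bool.and_eq_true] at h
  rw [← cm_iff, z_val]
  exact h.1.1.1.1.1.1.2

lemma pow_twelve (m : M) : m ^ 12 = 1 := by
  have h := all_range label_checks m
  simp only [Bool.and_eq_true, beq_iff_eq] at h
  exact (npow_eq_one m 12).1 h.1.1.1.1.1.2

lemma not_swap_of_C0 {m : M} (hm : m ∈ C0) : isU m.val = false ∧ isUp m.val = false := by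
  have h := all_range label_checks m
  simp only [Bool.and_eq_true] at h
  have h := h.1.1.1.1.2
  rw [C0, mem_subOf] at hm
  rw [hm] at h
  simpa using h

lemma mem_A_of_U {m : M} (hS : m ∈ S) (hU : isU m.val = true) : m ∈ A := by
  have h := all_range label_checks m
  simp only [Bool.and_eq_true] at h
  have h := h.1.1.1.2
  rw [S, mem_subOf] at hS
  rw [hS, hU] at h
  simpa [A, mem_subOf] using h

lemma sq_mem_A {m : M} (hS : m ∈ S) : m * m ∈ A := by
  have h := all_range label_checks m
  simp only [Bool.and_eq_true] at h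
  have h := h.1.1.2
  rw [S, mem_subOf] at hS
  rw [hS, ← mul_val] at h
  simpa [A, mem_subOf] using h

lemma A_facts {m : M} (hm : m ∈ A) : m ∈ S ∧ m * m = 1 := by
  have h := all_range label_checks m
  simp only [Bool.and_eq_true] at h
  have h := h.1.2
  rw [A, mem_subOf] at hm
  rw [hm] at h
  simp only [Bool.not_true, Bool.false_or, Bool.and_eq_true, beq_iff_eq, ← mul_val, ← one_val,
    val_inj] at h
  exact ⟨h.1, h.2⟩

lemma A_le_S : A ≤ S := fun _ h => (A_facts h).1

lemma swap_notMem_C0 : u ∉ C0 := by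
  rw [C0, mem_subOf, u_val]; decide

lemma isL_z : IsL z := by rw [isL_iff]; exact Or.inl rfl
lemma isL_u : IsL u := by rw [IsL, u_val]; decide +kernel
lemma isR_u' : IsR u' := by rw [IsR, u'_val]; decide +kernel
lemma isR_q : IsR q := by rw [IsR, q_val]; decide +kernel

lemma z_mul_u : z * u = u' := by
  rw [← val_inj, mul_val, z_val, u_val, u'_val]; decide +kernel

lemma mem_A_el {i : ℕ} (hi : i < 16) : el i ∈ A := by
  rw [A, mem_subOf, el_val hi, isA, List.contains_iff_mem, elN, List.getD_eq_getElem _ _ (by simpa [elList] using hi)]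
  exact List.getElem_mem _

lemma exists_el {m : M} (hm : m ∈ A) : ∃ i < 16, el i = m := by
  rw [A, mem_subOf, isA, List.contains_iff_mem] at hm
  obtain ⟨i, hi, he⟩ := List.mem_iff_getElem.1 hm
  have hi' : i < 16 := by simpa [elList] using hi
  refine ⟨i, hi', val_inj.1 ?_⟩
  rw [el_val hi', elN, List.getD_eq_getElem _ _ hi, he]

lemma el_inj {i j : ℕ} (hi : i < 16) (hj : j < 16) (h : el i = el j) : i = j := by
  have h1 := List.all_eq_true.1 (List.all_eq_true.1 coord_checks.2.1 i (List.mem_range.2 hi)) j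
    (List.mem_range.2 hj)
  rw [← el_val hi, ← el_val hj, h] at h1
  simpa using h1

lemma el_xor {i j : ℕ} (hi : i < 16) (hj : j < 16) : el (i ^^^ j) = el i * el j := by
  have h1 := List.all_eq_true.1 (List.all_eq_true.1 coord_checks.1 i (List.mem_range.2 hi)) j
    (List.mem_range.2 hj)
  rw [beq_iff_eq] at h1
  rw [← val_inj, mul_val, el_val hi, el_val hj, el_val (Nat.xor_lt_two_pow (n := 4) hi hj), h1]

lemma el_zero : el 0 = 1 := val_inj.1 ((el_val (by norm_num)).trans one_val.symm)
lemma el_one : el 1 = z := val_inj.1 ((el_val (by norm_num)).trans z_val.symm)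
lemma el_two : el 2 = u := val_inj.1 ((el_val (by norm_num)).trans u_val.symm)
lemma el_three : el 3 = u' := val_inj.1 ((el_val (by norm_num)).trans u'_val.symm)
lemma el_four : el 4 = q := val_inj.1 ((el_val (by norm_num)).trans q_val.symm)

lemma z_mem_A : z ∈ A := el_one ▸ mem_A_el (by norm_num)
lemma u_mem_A : u ∈ A := el_two ▸ mem_A_el (by norm_num)
lemma u'_mem_A : u' ∈ A := el_three ▸ mem_A_el (by norm_num)
lemma q_mem_A : q ∈ A := el_four ▸ mem_A_el (by norm_num)

lemma conj_U {m : M} (h : isU m.val = true) : IsConj u m := by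
  have h1 := all_range conj_checks m
  simp only [Bool.and_eq_true] at h1
  have h1 := h1.1.1
  rw [h, Bool.not_true, Bool.false_or] at h1
  obtain ⟨g, hg⟩ := exists_range h1
  rw [← u_val, ← mul_val, ← mul_val, beq_iff_eq, val_inj] at hg
  exact isConj_iff.2 ⟨g, by rw [hg, mul_inv_cancel_right]⟩

lemma conj_Up {m : M} (h : isUp m.val = true) : IsConj u' m := by
  have h1 := all_range conj_checks m
  simp only [Bool.and_eq_true] at h1
  have h1 := h1.1.2
  rw [h, Bool.not_true, Bool.false_or] at h1
  obtain ⟨g, hg⟩ := exists_range h1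
  rw [← u'_val, ← mul_val, ← mul_val, beq_iff_eq, val_inj] at hg
  exact isConj_iff.2 ⟨g, by rw [hg, mul_inv_cancel_right]⟩

lemma conj_Q {m : M} (h : isQ m.val = true) : IsConj q m := by
  have h1 := all_range conj_checks m
  simp only [Bool.and_eq_true] at h1
  have h1 := h1.2
  rw [h, Bool.not_true, Bool.false_or] at h1
  obtain ⟨g, hg⟩ := exists_range h1
  rw [← q_val, ← mul_val, ← mul_val, beq_iff_eq, val_inj] at hg
  exact isConj_iff.2 ⟨g, by rw [hg, mul_inv_cancel_right]⟩

lemma card_cent_aux (a : M) :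
    Nat.card ↥(Subgroup.centralizer ({a} : Set M)) = ((List.range 576).filter fun x => cm x a.val).length :=
  (Nat.card_congr (Equiv.subtypeEquivRight fun x => Subgroup.mem_centralizer_singleton_iff)).trans
    (card_filter (fun x => x * a = a * x) _ fun x => (cm_iff x a).symm)

lemma card_cent_u : Nat.card ↥(Subgroup.centralizer ({u} : Set M)) = 48 := by
  rw [card_cent_aux, u_val]; exact cent_checks.1

lemma card_cent_u' : Nat.card ↥(Subgroup.centralizer ({u'} : Set M)) = 48 := by
  rw [card_cent_aux, u'_val]; exact cent_checks.2.1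

lemma card_cent_q : Nat.card ↥(Subgroup.centralizer ({q} : Set M)) = 32 := by
  rw [card_cent_aux, q_val]; exact cent_checks.2.2.1

lemma comm_u_iff (x : M) : x * u = u * x ↔ x * u' = u' * x := by
  rw [← cm_iff, ← cm_iff, u_val, u'_val]
  have h := all_range cent_checks.2.2.2 x
  rw [beq_iff_eq] at h
  rw [h]

lemma S_center {m : M} (hm : m ∈ S) (h : ∀ x ∈ S, m * x = x * m) : m = 1 ∨ m = z := by
  have h1 := all_range center_checks.1 m
  rw [S, mem_subOf] at hm
  rw [hm, Bool.not_true, Bool.false_or] at h1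
  simp only [Bool.or_eq_true, beq_iff_eq, List.any_eq_true, List.mem_filter, List.mem_range,
    Bool.not_eq_true'] at h1
  rcases h1 with (h1 | h1) | ⟨x, ⟨hx, hxS⟩, hc⟩
  · exact Or.inl (val_inj.1 (h1.trans one_val.symm))
  · exact Or.inr (val_inj.1 (h1.trans z_val.symm))
  · rw [← val_mk hx] at hxS hc
    exact absurd (h (mk x) hxS) ((cm_false m (mk x)).1 hc)

lemma cent_U {m : M} (h : ∀ x : M, isU x.val = true → m * x = x * m) : m = 1 ∨ m = z := by
  have h1 := all_range center_checks.2.1 m
  simp only [Bool.or_eq_true, beq_iff_eq, List.any_eq_true, List.mem_filter, List.mem_range,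
    Bool.not_eq_true'] at h1
  rcases h1 with (h1 | h1) | ⟨x, ⟨hx, hxU⟩, hc⟩
  · exact Or.inl (val_inj.1 (h1.trans one_val.symm))
  · exact Or.inr (val_inj.1 (h1.trans z_val.symm))
  · rw [← val_mk hx] at hxU hc
    exact absurd (h (mk x) hxU) ((cm_false m (mk x)).1 hc)

lemma cent_A {m : M} (h : ∀ x ∈ A, m * x = x * m) : m ∈ A := by
  have h1 := all_range center_checks.2.2.1 m
  simp only [Bool.or_eq_true, List.any_eq_true, Bool.not_eq_true'] at h1
  rcases h1 with h1 | ⟨x, hx, hc⟩
  · exact h1
  · obtain ⟨i, hi, rfl⟩ := List.mem_iff_getElem.1 hx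
    have hi' : i < 16 := by simpa [elList] using hi
    have e : (el i).val = elList[i] := by rw [el_val hi', elN, List.getD_eq_getElem _ _ hi]; rfl
    exact absurd (h _ (mem_A_el hi')) ((cm_false m (el i)).1 (e.symm ▸ hc))

lemma A_comm {a b : M} (ha : a ∈ A) (hb : b ∈ A) : a * b = b * a := by
  rw [A, mem_subOf, isA, List.contains_iff_mem] at ha hb
  exact (cm_iff a b).1 (List.all_eq_true.1 (List.all_eq_true.1 center_checks.2.2.2 _ ha) _ hb)

/-- An elementary abelian subgroup of order 16 of the Sylow subgroup is `A`. -/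
lemma eq_A_of_le_S {B : Subgroup M} (hB : B ≤ S) (hc : Nat.card B = 16)
    (h2 : ∀ x ∈ B, x * x = 1) : B = A := by
  refine Subgroup.eq_of_le_of_card_ge (fun y hy => ?_) (by rw [hc, card_A])
  by_cases hy1 : y = 1
  · rw [hy1]; exact one_mem _
  by_contra hyA
  have h1 := all_range elem_checks y
  rw [(hB hy : isS y.val = true), (isInv_iff y).2 ⟨h2 y hy, hy1⟩,
    Bool.eq_false_iff.2 (fun h : isA y.val = true => hyA h)] at h1
  simp only [Bool.and_self, Bool.not_true, Bool.false_or, Nat.blt_eq] at h1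
  set p : ℕ → Bool := fun x => isS x && isInv x && cm x y.val with hp
  have hcard := card_filter (fun x => p x.val = true) p (fun _ => Iff.rfl)
  classical
  let f : {b : B // b ≠ 1} → {x : M // p x.val = true} := fun b => ⟨b.1.1, by
    simp only [hp, Bool.and_eq_true, cm_iff]
    refine ⟨⟨hB b.1.2, (isInv_iff _).2 ⟨h2 _ b.1.2, fun h => b.2 (Subtype.ext h)⟩⟩, ?_⟩
    have e : ∀ a ∈ B, a⁻¹ = a := fun a ha => inv_eq_of_mul_eq_one_left (h2 a ha)
    rw [← e _ (mul_mem b.1.2 hy), mul_inv_rev, e _ hy, e _ b.1.2]⟩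
  have hf : Function.Injective f := fun a b h =>
    Subtype.ext (Subtype.ext (congrArg (fun x : {x : M // p x.val = true} => x.1) h))
  have hle := Nat.card_le_card_of_injective f hf
  haveI := Fintype.ofFinite B
  have h15 : Nat.card {b : B // b ≠ 1} = 15 := by
    rw [Nat.card_eq_fintype_card, Fintype.card_subtype_compl, Fintype.card_subtype_eq,
      ← Nat.card_eq_fintype_card, hc]
  rw [h15, hcard] at hle
  omega

/-- A line of `A` other than the centre lies in no other conjugate of `A`. -/
lemma normalizes_of {c v : M} (hv : v ∈ A) (hvU : isU v.val = true) (h : c⁻¹ * v * c ∈ A) {x : M}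
    (hx : x ∈ A) : c * x * c⁻¹ ∈ A := by
  have hv4 : v.val ∈ [1, 75, 375, 575] := by
    have h5 : ∀ n ∈ elList, isU n = true → n ∈ [1, 75, 375, 575] := by decide +kernel
    rw [A, mem_subOf, isA, List.contains_iff_mem] at hv
    exact h5 _ hv hvU
  have h1 := List.all_eq_true.1 (all_range unique_checks.1 c) _ hv4
  have e : c⁻¹ * v * c = c⁻¹ * v * (c⁻¹)⁻¹ := by rw [inv_inv]
  rw [A, mem_subOf, e, cj_val, inv_val] at h
  rw [h, Bool.not_true, Bool.false_or] at h1
  rw [A, mem_subOf, cj_val]
  rw [A, mem_subOf, isA, List.contains_iff_mem] at hx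
  exact List.all_eq_true.1 h1 _ hx

lemma mem_A_of_comm_u {w : M} (hw : isU w.val = true) (hc : w * u = u * w) : w ∈ A := by
  have h1 := all_range unique_checks.2 w
  rw [hw, ← u_val, (cm_iff w u).2 hc] at h1
  simpa [A, mem_subOf] using h1

lemma odd_free {m : M} (hm : m ≠ 1) (h9 : m ^ 9 = 1) : ∃ x : M, (x * m * x⁻¹ * m⁻¹) ^ 9 ≠ 1 := by
  have h1 := all_range odd_checks.1 m
  rw [(npow_eq_one m 9).2 h9, beq_eq_false_iff_ne.2 (fun h => hm (val_inj.1 (h.trans one_val.symm)))] at h1
  simp only [BEq.rfl, Bool.not_true, Bool.false_or] at h1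
  obtain ⟨x, hx⟩ := exists_range h1
  rw [Bool.not_eq_true', beq_eq_false_iff_ne, ← cj_val, ← inv_val, ← mul_val, ne_eq, npow_eq_one] at hx
  exact ⟨x, hx⟩

lemma odd_free_u {m : M} (hm : m ≠ 1) (h9 : m ^ 9 = 1) (hc : m * u = u * m) :
    ∃ x : M, x * u = u * x ∧ (x * m * x⁻¹ * m⁻¹) ^ 9 ≠ 1 := by
  have h1 := all_range odd_checks.2 m
  rw [(npow_eq_one m 9).2 h9, beq_eq_false_iff_ne.2 (fun h => hm (val_inj.1 (h.trans one_val.symm))),
    ← u_val, (cm_iff m u).2 hc] at h1
  simp only [BEq.rfl, Bool.not_true, Bool.false_or] at h1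
  obtain ⟨x, hx⟩ := exists_range h1
  rw [Bool.and_eq_true, cm_iff, Bool.not_eq_true', beq_eq_false_iff_ne, ← cj_val, ← inv_val, ← mul_val,
    ne_eq, npow_eq_one] at hx
  exact ⟨x, hx⟩

/-- The five lines in the centralizer of `q`. -/
def five : Fin 5 → M := ![z, u, mk 75, mk 375, mk 575]

lemma five_val : ∀ i, (five i).val = fiveList.getD i 0 := by decide +kernel

lemma five_inj : Function.Injective five := by decide +kernel

lemma isL_comm_q (m : M) : (IsL m ∧ m * q = q * m) ↔ ∃ i, five i = m := by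
  have h1 := all_range five_checks.1 m
  rw [beq_iff_eq] at h1
  rw [← cm_iff, q_val, IsL, ← Bool.and_eq_true, h1, List.contains_iff_mem, List.mem_iff_getElem]
  constructor
  · rintro ⟨i, hi, he⟩
    have hi' : i < 5 := by simpa [fiveList] using hi
    exact ⟨⟨i, hi'⟩, val_inj.1 (by rw [five_val, List.getD_eq_getElem _ _ hi, he])⟩
  · rintro ⟨i, rfl⟩
    have hi : (i : ℕ) < fiveList.length := by simpa [fiveList] using i.2
    exact ⟨i, hi, by rw [five_val, List.getD_eq_getElem _ _ hi]⟩

lemma five_prod : five 0 * five 1 * five 2 * five 3 * five 4 = 1 := by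
  simp only [← val_inj, mul_val, five_val, one_val]
  exact five_checks.2.2.1

lemma five_pair_q : five 3 * five 4 = q := by
  simp only [← val_inj, mul_val, five_val, q_val]
  exact five_checks.2.2.2.1

lemma five_pair {i j : Fin 5} (h : five i * five j = q) : (i = 3 ∧ j = 4) ∨ (i = 4 ∧ j = 3) := by
  have key : ∀ i j : Fin 5, nmul (fiveList.getD i 0) (fiveList.getD j 0) = 50 →
      (i = 3 ∧ j = 4) ∨ (i = 4 ∧ j = 3) := by decide +kernel
  refine key i j ?_
  rw [← five_val, ← five_val, ← mul_val, h, q_val]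

/-- The involutions centralising `q` and moving `five 3`. -/
def IsMover (y : M) : Prop := (y * y = 1 ∧ y ≠ 1) ∧ y * q = q * y ∧ y * five 3 ≠ five 3 * y

lemma card_mover : Nat.card {y : M // IsMover y} = 4 := by
  refine (card_filter IsMover (fun y => isInv y && cm y 50 && !(cm y 375)) fun y => ?_).trans
    five_checks.2.2.2.2.1
  rw [IsMover, ← isInv_iff, ← cm_iff, ← cm_false, q_val, five_val]
  simp [fiveList, and_assoc]

lemma mover_moves {y : M} (h : IsMover y) :
    y * five 1 ≠ five 1 * y ∧ y * five 2 ≠ five 2 * y := by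
  have h1 := all_range five_checks.2.2.2.2.2 y
  rw [IsMover, ← isInv_iff, ← cm_iff, ← cm_false, q_val, five_val] at h
  have h3 : cm y.val 375 = false := h.2.2
  rw [h.1, h.2.1, h3] at h1
  rw [← cm_false, ← cm_false, five_val, five_val]
  simpa [fiveList] using h1

lemma inPow_iff (w x : M) : inPow w.val x.val = true ↔ x ∈ Subgroup.zpowers w := by
  rw [inPow, List.any_eq_true]
  constructor
  · rintro ⟨k, -, hk⟩
    rw [beq_iff_eq, ← npow_val, val_inj] at hk
    exact hk ▸ pow_mem (Subgroup.mem_zpowers w) k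
  · intro h
    obtain ⟨j, rfl⟩ := Subgroup.mem_zpowers_iff.1 h
    have hk : (0 : ℤ) ≤ j % 12 := Int.emod_nonneg _ (by norm_num)
    refine ⟨(j % 12).toNat, List.mem_range.2 ?_, ?_⟩
    · have := Int.emod_lt_of_pos j (b := 12) (by norm_num); omega
    · rw [beq_iff_eq, ← npow_val, val_inj, ← zpow_natCast, Int.toNat_of_nonneg hk]
      conv_rhs => rw [← Int.emod_add_mul_ediv j 12, zpow_add, zpow_mul]
      rw [show (w : M) ^ (12 : ℤ) = 1 by exact_mod_cast pow_twelve w, one_zpow, mul_one]

set_option maxRecDepth 20000 in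
lemma card_pairs :
    Nat.card {p : M × M // IsL p.1 ∧ IsR p.2 ∧ z ∈ Subgroup.zpowers (p.1 * p.2)} = 108 := by
  classical
  rw [Nat.card_eq_fintype_card, Fintype.card_subtype]
  refine Eq.trans ?_ pair_check
  have hnd : ((((List.range 576).filter isL).product ((List.range 576).filter isR)).filter
      fun p => inPow (nmul p.1 p.2) 24).Nodup :=
    ((List.nodup_range.filter isL).product (List.nodup_range.filter isR)).filter _
  rw [← List.toFinset_card_of_nodup hnd, ← Finset.card_image_of_injective _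
    (f := fun p : M × M => (p.1.val, p.2.val))
    fun a b h => Prod.ext (val_inj.1 (congrArg Prod.fst h)) (val_inj.1 (congrArg Prod.snd h))]
  congr 1
  ext ⟨a, b⟩
  simp only [Finset.mem_image, Finset.mem_filter, Finset.mem_univ, true_and, List.mem_toFinset,
    List.mem_filter, List.pair_mem_product, List.mem_range, ← inPow_iff, Prod.mk.injEq, z_val,
    mul_val]
  constructor
  · rintro ⟨⟨x, y⟩, ⟨hx, hy, h⟩, rfl, rfl⟩
    exact ⟨⟨⟨x.val_lt, hx⟩, y.val_lt, hy⟩, h⟩
  · rintro ⟨⟨⟨ha, hLa⟩, hb, hRb⟩, h⟩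
    refine ⟨(mk a, mk b), ⟨?_, ?_, ?_⟩, val_mk ha, val_mk hb⟩
    · rw [IsL, val_mk ha]; exact hLa
    · rw [IsR, val_mk hb]; exact hRb
    · rw [val_mk ha, val_mk hb]; exact h

end M

end Cfsg.Agent.H31.UFour
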