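import Cfsg.Agent.H31.UFour.Transport
import Cfsg.Agent.H86.MTwelve.Fusion
import Cfsg.Agent.H48.GTwoFusion.Transfer
import Cfsg.Agent.S0215

/-!
Fusion of involutions in a group without subgroup of index two with the involution centralizer of `PSp₄(3)`.
-/

set_option autoImplicit false
set_option linter.unusedSectionVars false
set_option linter.style.haveILetI false

namespace Cfsg.Agent.H31.UFour

open Subgroup
open Cfsg.Agent.H86.MTwelve (two_iff two_of_isConj exists_normalizing)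

variable {G : Type*} [Group G]

/-- If the product of two involutions has odd order, they are conjugate by a power of it. -/
lemma exists_conj_of_odd {a b : G} (ha : a * a = 1) (hb : b * b = 1) {k : ℕ}
    (h : (a * b) ^ (2 * k + 1) = 1) :
    (a * b) ^ (k + 1) * b * ((a * b) ^ (k + 1))⁻¹ = a := by
  have e1 : ∀ j : ℕ, b * ((a * b) ^ j)⁻¹ = (a * b) ^ j * b := by
    intro j
    induction j with
    | zero => simp
    | succ j ih =>
      have hi : (a * b)⁻¹ = b * a := by
        rw [mul_inv_rev, inv_eq_of_mul_eq_one_left ha, inv_eq_of_mul_eq_one_left hb]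
      calc b * ((a * b) ^ (j + 1))⁻¹ = b * (a * b)⁻¹ * ((a * b) ^ j)⁻¹ := by
            rw [pow_succ, mul_inv_rev, mul_assoc]
        _ = (b * b) * a * ((a * b) ^ j)⁻¹ := by rw [hi]; group
        _ = a * (b * b) * ((a * b) ^ j)⁻¹ := by rw [hb, one_mul, mul_one]
        _ = (a * b) * (b * ((a * b) ^ j)⁻¹) := by group
        _ = (a * b) ^ (j + 1) * b := by rw [ih, pow_succ']; group
  rw [mul_assoc, e1, ← mul_assoc, ← pow_add, show k + 1 + (k + 1) = 2 * k + 1 + 1 by omega, pow_succ, h,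
    one_mul, mul_assoc, hb, mul_one]

namespace M

/-- The automorphism exchanging the two classes of twelve. -/
noncomputable def twist (m : M) : M := by classical exact if m ∈ C0 then m else m * z

lemma C0_index : C0.index = 2 := by
  have h := card_mul_index C0
  rw [card_C0, card_M] at h
  omega

lemma twist_mul (a b : M) : twist (a * b) = twist a * twist b := by
  classical
  have hiff := mul_mem_iff_of_index_two C0_index (a := a) (b := b)
  have hzz : z * z = 1 := ((invol_iff z).2 (Or.inl isL_z)).1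
  unfold twist
  by_cases ha : a ∈ C0 <;> by_cases hb : b ∈ C0
  · rw [if_pos ha, if_pos hb, if_pos (hiff.2 (iff_of_true ha hb))]
  · rw [if_pos ha, if_neg hb, if_neg (fun h => hb ((hiff.1 h).1 ha)), mul_assoc]
  · rw [if_neg ha, if_pos hb, if_neg (fun h => ha ((hiff.1 h).2 hb)), mul_assoc, mul_assoc, comm_z]
  · rw [if_neg ha, if_neg hb, if_pos (hiff.2 (iff_of_false ha hb))]
    calc a * b = a * b * (z * z) := by rw [hzz, mul_one]
      _ = a * (b * z) * z := by group
      _ = a * (z * b) * z := by rw [← comm_z b]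
      _ = a * z * (b * z) := by group

lemma z_mem_C0 : z ∈ C0 := by rw [C0, mem_subOf, z_val]; decide

lemma q_mem_C0 : q ∈ C0 := by rw [C0, mem_subOf, q_val]; decide

lemma twist_twist (a : M) : twist (twist a) = a := by
  classical
  unfold twist
  by_cases ha : a ∈ C0
  · rw [if_pos ha, if_pos ha]
  · rw [if_neg ha, if_neg (fun h => ha ?_), mul_assoc, ((invol_iff z).2 (Or.inl isL_z)).1, mul_one]
    have := C0.mul_mem h (C0.inv_mem z_mem_C0)
    rwa [mul_inv_cancel_right] at this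

/-- The twisting automorphism. -/
noncomputable def twistEquiv : M ≃* M where
  toFun := twist
  invFun := twist
  left_inv := twist_twist
  right_inv := twist_twist
  map_mul' := twist_mul

lemma twist_facts : twist z = z ∧ twist q = q ∧ twist u = u' ∧ twist u' = u := by
  classical
  have hu : twist u = u' := by
    unfold twist
    rw [if_neg swap_notMem_C0, comm_z, z_mul_u]
  refine ⟨if_pos z_mem_C0, if_pos q_mem_C0, hu, ?_⟩
  rw [← hu, twist_twist]

lemma S_inf_C0_relIndex : (S ⊓ C0).relIndex S = 2 := by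
  haveI := normal_of_index_eq_two C0_index
  rw [inf_relIndex_left]
  have h : C0.relIndex S ∣ 2 := C0_index ▸ relIndex_dvd_index_of_normal C0 S
  refine ((Nat.dvd_prime Nat.prime_two).1 h).resolve_left fun h1 => ?_
  exact swap_notMem_C0 (relIndex_eq_one.1 h1 (A_le_S u_mem_A))

/-- A conjugate of an element by a label, as coordinates. -/
lemma perm_rep {k i : ℕ} (hk : k < 12) (hi : i < 16) :
    mk (permReps.getD k 0) * el i * (mk (permReps.getD k 0))⁻¹ = el ((permTabs.getD k []).getD i 0) ∧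
      (permTabs.getD k []).getD i 0 < 16 := by
  have h1 := List.all_eq_true.1 (List.all_eq_true.1 coord_checks.2.2 k (List.mem_range.2 hk)) i
    (List.mem_range.2 hi)
  simp only [Bool.and_eq_true, beq_iff_eq, Nat.blt_eq] at h1
  refine ⟨?_, h1.2⟩
  have hlt : ∀ k : Fin 12, permReps.getD k 0 < 576 := by decide
  rw [← val_inj, cj_val, val_mk (hlt ⟨k, hk⟩), el_val hi, el_val h1.2, h1.1]

end M

namespace Emb

variable {t : G} (E : Emb t)

include E in
lemma finite_cent : Nat.card ↥(centralizer ({t} : Set G)) = 576 := by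
  rw [← E.range_eq, ← Nat.card_congr (MonoidHom.ofInjective E.inj).toEquiv, M.card_M]

lemma eq_iff {a b : M} : E.hom a = E.hom b ↔ a = b := E.inj.eq_iff

lemma two_hom {m : M} : orderOf (E.hom m) = 2 ↔ m * m = 1 ∧ m ≠ 1 := by
  rw [two_iff, ← map_mul, ← map_one E.hom, E.eq_iff, ne_eq, E.eq_iff]

lemma comm_hom {a b : M} : E.hom a * E.hom b = E.hom b * E.hom a ↔ a * b = b * a := by
  rw [← map_mul, ← map_mul, E.eq_iff]

lemma inf_cent (m : M) : centralizer ({t} : Set G) ⊓ centralizer ({E.hom m} : Set G) =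
    (centralizer ({m} : Set M)).map E.hom := by
  ext g
  rw [mem_inf, mem_centralizer_singleton_iff, mem_centralizer_singleton_iff, mem_map]
  constructor
  · rintro ⟨h1, h2⟩
    obtain ⟨a, rfl⟩ := E.mem_iff.1 h1
    exact ⟨a, mem_centralizer_singleton_iff.2 (E.comm_hom.1 h2), rfl⟩
  · rintro ⟨a, ha, rfl⟩
    exact ⟨E.comm a, E.comm_hom.2 (mem_centralizer_singleton_iff.1 ha)⟩

lemma card_inf_cent (m : M) :
    Nat.card ↥(centralizer ({t} : Set G) ⊓ centralizer ({E.hom m} : Set G)) =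
      Nat.card ↥(centralizer ({m} : Set M)) := by
  rw [E.inf_cent, card_map_of_injective E.inj]

lemma isConj_of {a b : M} (h : IsConj a b) : IsConj (E.hom a) (E.hom b) := by
  obtain ⟨g, rfl⟩ := isConj_iff.1 h
  exact isConj_iff.2 ⟨E.hom g, by simp⟩

/-- The image of the first coordinate. -/
lemma linN_one (b c d e : ℕ) : linN b c d e 1 = b := by
  have h : (1 : ℕ).testBit 0 = true ∧ (1 : ℕ).testBit 1 = false ∧ (1 : ℕ).testBit 2 = false ∧
      (1 : ℕ).testBit 3 = false := by decide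
  simp [linN, h.1, h.2.1, h.2.2.1, h.2.2.2]

/-- The image of `A`. -/
def As : Subgroup G := M.A.map E.hom

lemma card_As : Nat.card E.As = 16 := by rw [As, card_map_of_injective E.inj, M.card_A]

lemma class_rep {m : M} (hm : m * m = 1 ∧ m ≠ 1) :
    E.hom m = t ∨ IsConj (E.hom M.u) (E.hom m) ∨ IsConj (E.hom M.u') (E.hom m) ∨
      IsConj (E.hom M.q) (E.hom m) := by
  rcases (M.invol_iff m).1 hm with h | h
  · rcases (M.isL_iff m).1 h with rfl | h
    · exact Or.inl E.map_z
    · exact Or.inr (Or.inl (E.isConj_of (M.conj_U h)))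
  · rcases (M.isR_iff m).1 h with h | h
    · exact Or.inr (Or.inr (Or.inr (E.isConj_of (M.conj_Q h))))
    · exact Or.inr (Or.inr (Or.inl (E.isConj_of (M.conj_Up h))))

variable (ht : orderOf t = 2) [Finite G]
include ht

/-- The Sylow subgroup of the centralizer is one of the group. -/
lemma exists_sylow : ∃ P : Sylow 2 G, (P : Subgroup G) = M.S.map E.hom := by
  haveI : Fact (Nat.Prime 2) := ⟨Nat.prime_two⟩
  have hc : Nat.card (M.S.map E.hom) = 2 ^ 6 := by
    rw [card_map_of_injective E.inj, M.card_S]; norm_num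
  obtain ⟨P, hP⟩ := (IsPGroup.of_card hc).exists_le_sylow
  refine ⟨P, by_contra fun hne => ?_⟩
  obtain ⟨n, hnP, hnT, hn⟩ := exists_normalizing P.isPGroup' hP (Ne.symm hne)
  obtain ⟨m, hm, hme⟩ := hn t ⟨M.z, M.A_le_S M.z_mem_A, E.map_z⟩
  have hmz : m = M.z := by
    refine (M.S_center hm fun x hx => ?_).resolve_left fun h => ?_
    · let f : ↥(M.S.map E.hom) → ↥(M.S.map E.hom) := fun y => ⟨n * y * n⁻¹, hn y y.2⟩
      have hf : Function.Bijective f := (Finite.injective_iff_bijective).1 fun a b h =>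
        Subtype.ext (mul_left_cancel (mul_right_cancel (congrArg Subtype.val h : n * (a : G) * n⁻¹ = n * b * n⁻¹)))
      obtain ⟨⟨y, hy⟩, hyx⟩ := hf.2 ⟨E.hom x, mem_map_of_mem _ hx⟩
      have hyx'' : n * y * n⁻¹ = E.hom x := congrArg Subtype.val hyx
      obtain ⟨k, -, hk⟩ := hy
      have hyx' : n * E.hom k * n⁻¹ = E.hom x := hk ▸ hyx''
      apply E.inj
      rw [map_mul, map_mul, hme, ← hyx']
      have h := E.comm k
      calc n * t * n⁻¹ * (n * E.hom k * n⁻¹) = n * (t * E.hom k) * n⁻¹ := by group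
        _ = n * E.hom k * n⁻¹ * (n * t * n⁻¹) := by rw [← h]; group
    · rw [h, map_one] at hme
      exact (two_iff.1 ht).2 (conj_eq_one_iff.1 hme.symm)
  rw [hmz, E.map_z] at hme
  have hnc : n ∈ centralizer ({t} : Set G) :=
    mem_centralizer_singleton_iff.2 (eq_mul_inv_iff_mul_eq.1 hme).symm
  set R := (P : Subgroup G) ⊓ centralizer ({t} : Set G) with hR
  have hTR : M.S.map E.hom ≤ R := le_inf hP fun y hy => by
    obtain ⟨k, -, rfl⟩ := hy
    exact mem_centralizer_singleton_iff.2 (E.comm k)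
  obtain ⟨j, hj⟩ := (P.isPGroup'.to_le inf_le_left : IsPGroup 2 R).exists_card_eq
  have hd : Nat.card R ∣ 576 := E.finite_cent ▸ card_dvd_of_le inf_le_right
  have hle : Nat.card R ≤ 64 := by
    rw [hj] at hd ⊢
    have : 2 ^ j ∣ 64 := (Nat.Coprime.dvd_of_dvd_mul_right (k := 2 ^ j) (n := 9) (m := 64)
      (Nat.Coprime.pow_left _ (by norm_num)) (by simpa using hd))
    exact Nat.le_of_dvd (by norm_num) this
  refine hnT ?_
  rw [eq_of_le_of_card_ge hTR (by rw [hc]; exact hle)]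
  exact ⟨hnP, hnc⟩

/-- Elementary abelian subgroups of order 16 of the centralizer are conjugate to `As` in it. -/
lemma exists_conj_As {B : Subgroup G} (hB : B ≤ centralizer ({t} : Set G)) (hc : Nat.card B = 16)
    (h2 : ∀ x ∈ B, x * x = 1) : ∃ c : G, c * t = t * c ∧ B.map (MulAut.conj c).toMonoidHom = E.As := by
  haveI : Fact (Nat.Prime 2) := ⟨Nat.prime_two⟩
  set B' := B.comap E.hom with hB'
  have hmap : B'.map E.hom = B := map_comap_eq_self (by rw [E.range_eq]; exact hB)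
  have hc' : Nat.card B' = 16 := by
    have h := card_map_of_injective (f := E.hom) E.inj (K := B')
    rw [hmap, hc] at h
    exact h.symm
  obtain ⟨P, hP⟩ := (IsPGroup.of_card (p := 2) (n := 4) (by rw [hc']; norm_num) : IsPGroup 2 B').exists_le_sylow
  have hS : Nat.card M.S = 2 ^ (Nat.card M).factorization 2 := by
    rw [M.card_S, M.card_M, Nat.factorization_def _ Nat.prime_two, show (576 : ℕ) = 2 ^ 6 * 9 by norm_num,
      padicValNat.mul (by norm_num) (by norm_num), padicValNat.prime_pow,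
      padicValNat.eq_zero_of_not_dvd (by norm_num : ¬ 2 ∣ 9)]
    norm_num
  obtain ⟨g, hg⟩ := MulAction.exists_smul_eq M P (Sylow.ofCard M.S hS)
  have hA : B'.map (MulAut.conj g).toMonoidHom = M.A := by
    refine M.eq_A_of_le_S ?_ ?_ ?_
    · rintro _ ⟨b, hb, rfl⟩
      have : (MulAut.conj g) b ∈ ((g • P : Sylow 2 M) : Subgroup M) :=
        smul_mem_pointwise_smul b (MulAut.conj g) (P : Subgroup M) (hP hb)
      rw [hg] at this
      exact this
    · rw [card_map_of_injective (MulAut.conj g).injective, hc']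
    · rintro _ ⟨b, hb, rfl⟩
      rw [← map_mul, show b * b = 1 from E.inj (by rw [map_mul, map_one]; exact h2 _ hb), map_one]
  refine ⟨E.hom g, E.comm g, ?_⟩
  have hcomp : (MulAut.conj (E.hom g)).toMonoidHom.comp E.hom =
      E.hom.comp (MulAut.conj g).toMonoidHom :=
    MonoidHom.ext fun m => by simp
  rw [← hmap, map_map, hcomp, ← map_map, hA, As]

/-- Fusion into `A` is realised in the normalizer of `A`. -/
lemma exists_normalizer {a : M} (ha : a ∈ M.A) (h : IsConj t (E.hom a)) :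
    ∃ y : G, (∀ i < 16, ∃ j < 16, y * E.hom (M.el i) * y⁻¹ = E.hom (M.el j)) ∧ y * t * y⁻¹ = E.hom a := by
  obtain ⟨g, hg⟩ := isConj_iff.1 h
  set B := E.As.map (MulAut.conj g⁻¹).toMonoidHom with hBdef
  obtain ⟨c, hc, hcB⟩ := E.exists_conj_As ht (B := B)
    (by
      rintro _ ⟨_, ⟨k, hk, rfl⟩, rfl⟩
      rw [mem_centralizer_singleton_iff]
      show g⁻¹ * E.hom k * g⁻¹⁻¹ * t = t * (g⁻¹ * E.hom k * g⁻¹⁻¹)
      have e : g⁻¹ * E.hom a * g⁻¹⁻¹ = t := by rw [← hg]; group
      calc g⁻¹ * E.hom k * g⁻¹⁻¹ * t = g⁻¹ * E.hom k * g⁻¹⁻¹ * (g⁻¹ * E.hom a * g⁻¹⁻¹) := by rw [e]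
        _ = g⁻¹ * E.hom a * g⁻¹⁻¹ * (g⁻¹ * E.hom k * g⁻¹⁻¹) := by
          rw [conj_mul, conj_mul, E.comm_hom.2 (M.A_comm hk ha)]
        _ = t * (g⁻¹ * E.hom k * g⁻¹⁻¹) := by rw [e])
    (by rw [hBdef, card_map_of_injective (MulAut.conj g⁻¹).injective, E.card_As])
    (by
      rintro _ ⟨_, ⟨k, hk, rfl⟩, rfl⟩
      rw [← map_mul, ← map_mul, (M.A_facts hk).2, map_one, map_one])
  refine ⟨g * c⁻¹, fun i hi => ?_, ?_⟩
  · have hmem : E.hom (M.el i) ∈ B.map (MulAut.conj c).toMonoidHom := by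
      rw [hcB]; exact mem_map_of_mem _ (M.mem_A_el hi)
    obtain ⟨_, ⟨_, ⟨k, hk, rfl⟩, rfl⟩, hk'⟩ := hmem
    obtain ⟨j, hj, rfl⟩ := M.exists_el hk
    refine ⟨j, hj, ?_⟩
    rw [← hk']
    show g * c⁻¹ * (c * (g⁻¹ * E.hom (M.el j) * g⁻¹⁻¹) * c⁻¹) * (g * c⁻¹)⁻¹ = E.hom (M.el j)
    group
  · rw [← hg]
    have : c⁻¹ * t * c = t := by rw [mul_assoc, ← hc, inv_mul_cancel_left]
    calc g * c⁻¹ * t * (g * c⁻¹)⁻¹ = g * (c⁻¹ * t * c) * g⁻¹ := by group
      _ = g * t * g⁻¹ := by rw [this]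

omit ht [Finite G] in
/-- An element normalising `A` acts linearly on coordinates. -/
lemma exists_linear {y : G} (hy : ∀ i < 16, ∃ j < 16, y * E.hom (M.el i) * y⁻¹ = E.hom (M.el j)) :
    ∃ b c d e : ℕ, b < 16 ∧ c < 16 ∧ d < 16 ∧ e < 16 ∧
      (∀ i < 16, linN b c d e i < 16 ∧ y * E.hom (M.el i) * y⁻¹ = E.hom (M.el (linN b c d e i))) ∧
      ∀ n < 15, linN b c d e (n + 1) ≠ 0 := by
  choose f hf hf' using hy
  have hlin : ∀ i j (hi : i < 16) (hj : j < 16),
      f (i ^^^ j) (Nat.xor_lt_two_pow (n := 4) hi hj) = f i hi ^^^ f j hj := fun i j hi hj => by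
    refine M.el_inj (hf _ _) (Nat.xor_lt_two_pow (n := 4) (hf _ _) (hf _ _)) (E.inj ?_)
    rw [← hf', M.el_xor hi hj, M.el_xor (hf _ _) (hf _ _), map_mul, map_mul, ← hf', ← hf', conj_mul]
  have hzero : f 0 (by norm_num) = 0 := by
    refine M.el_inj (hf _ _) (by norm_num) (E.inj ?_)
    rw [← hf', M.el_zero, map_one, mul_one, mul_inv_cancel]
  let F : ℕ → ℕ := fun i => if h : i < 16 then f i h else 0
  have hF : ∀ i (h : i < 16), F i = f i h := fun i h => dif_pos h
  have hFlin : ∀ i j, i < 16 → j < 16 → F (i ^^^ j) = F i ^^^ F j := fun i j hi hj => by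
    rw [hF _ (Nat.xor_lt_two_pow (n := 4) hi hj), hF i hi, hF j hj]; exact hlin i j hi hj
  have hF0 : F 0 = 0 := (hF 0 (by norm_num)).trans hzero
  refine ⟨F 1, F 2, F 4, F 8, by rw [hF 1 (by norm_num)]; exact hf _ _,
    by rw [hF 2 (by norm_num)]; exact hf _ _, by rw [hF 4 (by norm_num)]; exact hf _ _,
    by rw [hF 8 (by norm_num)]; exact hf _ _, ?_⟩
  have key : ∀ i < 16, linN (F 1) (F 2) (F 4) (F 8) i = F i := by
    intro i hi
    have e : linN 1 2 4 8 i = i := by
      have h16 : ∀ k : Fin 16, linN 1 2 4 8 k = k := by decide +kernel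
      exact h16 ⟨i, hi⟩
    have hb : ∀ (t : Bool) (k : ℕ), k < 16 → (bif t then k else 0) < 16 ∧
        F (bif t then k else 0) = bif t then F k else 0 := fun t k hk => by
      cases t <;> simp [hF0, hk]
    conv_rhs => rw [← e]
    unfold linN
    obtain ⟨l0, e0⟩ := hb (i.testBit 0) 1 (by norm_num)
    obtain ⟨l1, e1⟩ := hb (i.testBit 1) 2 (by norm_num)
    obtain ⟨l2, e2⟩ := hb (i.testBit 2) 4 (by norm_num)
    obtain ⟨l3, e3⟩ := hb (i.testBit 3) 8 (by norm_num)
    have l01 := Nat.xor_lt_two_pow (n := 4) l0 l1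
    rw [hFlin _ _ (Nat.xor_lt_two_pow (n := 4) l01 l2) l3, hFlin _ _ l01 l2, hFlin _ _ l0 l1, e0, e1,
      e2, e3]
  refine ⟨fun i hi => ?_, fun n hn h0 => ?_⟩
  · rw [key i hi, hF i hi]
    exact ⟨hf _ _, hf' _ _⟩
  · rw [key _ (by omega), hF _ (by omega)] at h0
    have := hf' (n + 1) (by omega)
    rw [h0, M.el_zero, map_one, conj_eq_one_iff] at this
    have h1 := M.el_inj (i := n + 1) (j := 0) (by omega) (by norm_num) (E.inj (by rw [this, M.el_zero, map_one]))
    omega

/-- The centre is not fused to the class of eighteen. -/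
lemma not_isConj_q : ¬ IsConj t (E.hom M.q) := by
  intro h
  haveI : Fact (Nat.Prime 2) := ⟨Nat.prime_two⟩
  obtain ⟨y, hy, hyt⟩ := E.exists_normalizer ht M.q_mem_A h
  obtain ⟨b, c, d, e, hb, hc, hd, he, hf, hinj⟩ := E.exists_linear hy
  have hb4 : b = 4 := by
    have h1 := (hf 1 (by norm_num)).2
    rw [M.el_one, E.map_z, hyt, ← M.el_four] at h1
    have h2 := M.el_inj (by norm_num) (hf 1 (by norm_num)).1 (E.inj h1)
    rw [linN_one] at h2
    exact h2.symm
  subst hb4
  have h1 := List.all_eq_true.1 (List.all_eq_true.1 (List.all_eq_true.1 line_check c (List.mem_range.2 hc)) d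
    (List.mem_range.2 hd)) e (List.mem_range.2 he)
  simp only [Bool.or_eq_true, List.any_eq_true, List.mem_range, beq_iff_eq, Bool.and_eq_true,
    List.all_eq_true, Bool.not_eq_true', beq_eq_false_iff_ne] at h1
  obtain ⟨n, hn, hn0⟩ | ⟨hl, hhl, kl, hkl, ⟨n, hn, hne⟩, hfour⟩ := h1
  · exact hinj n hn hn0
  obtain ⟨ih, hih, rfl⟩ := List.mem_iff_getElem.1 hhl
  obtain ⟨ik, hik, rfl⟩ := List.mem_iff_getElem.1 hkl
  rw [← List.getD_eq_getElem permTabs [] hih, ← List.getD_eq_getElem permTabs [] hik] at hfour hne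
  have hih' : ih < 12 := hih
  have hik' : ik < 12 := hik
  set w := y * E.hom (M.mk (permReps.getD ih 0)) * (y * E.hom (M.mk (permReps.getD ik 0))) with hw
  set W := wordN (linN 4 c d e) (permTabs.getD ih []) (permTabs.getD ik []) with hW
  have hact : ∀ i < 16, W i < 16 ∧ w * E.hom (M.el i) * w⁻¹ = E.hom (M.el (W i)) := by
    intro i hi
    obtain ⟨e1, l1⟩ := M.perm_rep hik' hi
    obtain ⟨l2, e2⟩ := hf _ l1
    obtain ⟨e3, l3⟩ := M.perm_rep hih' l2
    obtain ⟨l4, e4⟩ := hf _ l3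
    refine ⟨l4, ?_⟩
    rw [hW, wordN, ← e4, ← e3, map_mul, map_mul, map_inv, ← e2, ← e1, map_mul, map_mul, map_inv, hw]
    group
  have hact2 : ∀ i < 16, (w ^ 2) * E.hom (M.el i) * (w ^ 2)⁻¹ = E.hom (M.el (W (W i))) := fun i hi => by
    rw [← (hact _ (hact i hi).1).2, ← (hact i hi).2, sq, mul_inv_rev]; group
  have hact4 : ∀ i < 16, (w ^ 4) * E.hom (M.el i) * (w ^ 4)⁻¹ = E.hom (M.el i) := fun i hi => by
    have l2 : W (W i) < 16 := (hact _ (hact i hi).1).1
    conv_rhs => rw [← hfour i hi, ← hact2 _ l2, ← hact2 i hi]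
    group
  -- the fourth power lies in `A`
  obtain ⟨m, hm⟩ := E.mem_iff.1 (show w ^ 4 * t = t * w ^ 4 by
    have := hact4 1 (by norm_num)
    rwa [M.el_one, E.map_z, mul_inv_eq_iff_eq_mul] at this)
  have hmA : m ∈ M.A := M.cent_A fun x hx => E.comm_hom.1 (by
    obtain ⟨i, hi, rfl⟩ := M.exists_el hx
    rw [hm]
    exact mul_inv_eq_iff_eq_mul.1 (hact4 i hi))
  have hw8 : w ^ 2 ^ 3 = 1 := by
    rw [show (2 : ℕ) ^ 3 = 4 + 4 by norm_num, pow_add, ← hm, ← map_mul, (M.A_facts hmA).2, map_one]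
  -- a conjugate of `w` in the normalizer lies in the Sylow subgroup
  obtain ⟨P, hP⟩ := E.exists_sylow ht
  set N := normalizer ((E.As : Subgroup G) : Set G) with hN
  have hmemN : ∀ v : G, (∀ i < 16, ∃ j < 16, v * E.hom (M.el i) * v⁻¹ = E.hom (M.el j)) → v ∈ N := by
    intro v hv
    rw [hN]
    refine mem_normalizer_fintype fun z hz => ?_
    obtain ⟨k, hk, rfl⟩ := hz
    obtain ⟨i, hi, rfl⟩ := M.exists_el hk
    obtain ⟨j, hj, hj'⟩ := hv i hi
    rw [hj']
    exact mem_map_of_mem _ (M.mem_A_el hj)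
  have hPN : (P : Subgroup G) ≤ N := by
    rw [hP]
    rintro _ ⟨s, hs, rfl⟩
    refine hmemN _ fun i hi => ?_
    have hmem : s * M.el i * s⁻¹ ∈ M.A := by
      have h16 : M.A.map (MulAut.conj s).toMonoidHom = M.A := M.eq_A_of_le_S
        (by
          rintro _ ⟨a, ha, rfl⟩
          exact mul_mem (mul_mem hs (M.A_le_S ha)) (inv_mem hs))
        (by rw [card_map_of_injective (MulAut.conj s).injective, M.card_A])
        (by rintro _ ⟨a, ha, rfl⟩; rw [← map_mul, (M.A_facts ha).2, map_one])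
      rw [← h16]
      exact ⟨_, M.mem_A_el hi, rfl⟩
    obtain ⟨j, hj, hj'⟩ := M.exists_el hmem
    exact ⟨j, hj, by rw [hj', map_mul, map_mul, map_inv]⟩
  have hwN : w ∈ N := hmemN w fun i hi => ⟨W i, (hact i hi).1, (hact i hi).2⟩
  have hpw : IsPGroup 2 (zpowers (⟨w, hwN⟩ : N)) := by
    refine IsPGroup.iff_orderOf.2 fun v => ?_
    obtain ⟨j, -, hj⟩ := (Nat.dvd_prime_pow Nat.prime_two).1
      ((Subgroup.orderOf_coe v) ▸ (orderOf_dvd_of_mem_zpowers v.2).trans
        (orderOf_dvd_of_pow_eq_one (Subtype.ext hw8 : (⟨w, hwN⟩ : N) ^ 2 ^ 3 = 1)))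
    exact ⟨j, hj⟩
  obtain ⟨P', hP'⟩ := hpw.exists_le_sylow
  obtain ⟨g, hg⟩ := MulAction.exists_smul_eq N P' (P.subtype hPN)
  have hgw : ((g * ⟨w, hwN⟩ * g⁻¹ : N) : G) ∈ M.S.map E.hom := by
    have : (g * ⟨w, hwN⟩ * g⁻¹ : N) ∈ ((g • P' : Sylow 2 N) : Subgroup N) :=
      smul_mem_pointwise_smul _ (MulAut.conj g) (P' : Subgroup N) (hP' (mem_zpowers _))
    rw [hg, Sylow.coe_subtype, mem_subgroupOf, hP] at this
    exact this
  obtain ⟨s, hs, hse⟩ := hgw
  have hsq : w ^ 2 ∈ E.As := by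
    have h1 : (g : G) * w ^ 2 * (g : G)⁻¹ ∈ E.As := by
      refine ⟨s * s, M.sq_mem_A hs, ?_⟩
      rw [map_mul, hse]
      push_cast
      rw [sq]
      group
    exact ((mem_normalizer_iff.1 g.2) _).2 h1
  obtain ⟨a, ha, hae⟩ := hsq
  apply hne
  have hfix := hact2 n hn
  rw [← hae, E.comm_hom.2 (M.A_comm ha (M.mem_A_el hn)), mul_inv_cancel_right] at hfix
  exact (M.el_inj hn (hact _ (hact n hn).1).1 (E.inj hfix)).symm

/-- The centre is not fused to both classes of twelve. -/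
lemma not_both (hu : IsConj t (E.hom M.u)) (hu' : IsConj t (E.hom M.u')) : False := by
  obtain ⟨y, hy, hyt⟩ := E.exists_normalizer ht M.u_mem_A hu
  obtain ⟨b, c, d, e, hb, hc, hd, he, hf, hinj⟩ := E.exists_linear hy
  have hb2 : b = 2 := by
    have h1 := (hf 1 (by norm_num)).2
    rw [M.el_one, E.map_z, hyt, ← M.el_two] at h1
    have h2 := M.el_inj (by norm_num) (hf 1 (by norm_num)).1 (E.inj h1)
    rw [linN_one] at h2
    exact h2.symm
  subst hb2
  have h1 := List.all_eq_true.1 (List.all_eq_true.1 (List.all_eq_true.1 nine_check c (List.mem_range.2 hc)) d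
    (List.mem_range.2 hd)) e (List.mem_range.2 he)
  simp only [Bool.or_eq_true, List.any_eq_true, List.mem_range, beq_iff_eq, Bool.and_eq_true,
    Bool.not_eq_true', Bool.or_eq_false_iff] at h1
  obtain ⟨n, hn, hn0⟩ | ⟨p, hp, hpL, hnL, hnU⟩ := h1
  · exact hinj n hn hn0
  have htp : IsConj t (E.hom (M.el p)) := by
    rw [← M.el_val hp] at hpL
    rcases hpL with h | h
    · rcases (M.isL_iff _).1 h with h | h
      · rw [h, E.map_z]
      · exact hu.trans (E.isConj_of (M.conj_U h))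
    · exact hu'.trans (E.isConj_of (M.conj_Up h))
  obtain ⟨hl, himg⟩ := hf p hp
  have hti : IsConj t (E.hom (M.el (linN 2 c d e p))) := htp.trans (isConj_iff.2 ⟨y, himg⟩)
  rw [← M.el_val hl] at hnL hnU
  have h2 := E.two_hom.1 (two_of_isConj hti ht)
  rcases (M.invol_iff _).1 h2 with h | h
  · rw [M.IsL] at h
    rw [h] at hnL
    exact absurd hnL (by simp)
  rcases (M.isR_iff _).1 h with h | h
  · exact E.not_isConj_q ht (hti.trans (E.isConj_of (M.conj_Q h)).symm)
  · rw [h] at hnU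
    exact absurd hnU (by simp)

variable (hno : ∀ H : Subgroup G, H.index ≠ 2)
include hno

/-- The classes of twelve are fused to the centre or to the class of eighteen. -/
lemma fused_cases {v : M} (hv : v * v = 1 ∧ v ≠ 1) :
    IsConj t (E.hom v) ∨ IsConj (E.hom M.q) (E.hom v) := by
  obtain ⟨P, hP⟩ := E.exists_sylow ht
  have hle : (M.S ⊓ M.C0).map E.hom ≤ (P : Subgroup G) := hP ▸ map_mono inf_le_left
  have hrel : ((M.S ⊓ M.C0).map E.hom).relIndex (P : Subgroup G) = 2 := by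
    rw [hP, relIndex_map_map_of_injective _ _ E.inj, M.S_inf_C0_relIndex]
  obtain ⟨g, hg, -⟩ := H48.GTwoFusion.transfer_extremal (fun N _ => hno N) P _ hle hrel (E.hom v)
    (E.two_hom.2 hv) ⊥ IsPGroup.of_bot (fun r hr => by rw [mem_bot.1 hr, one_mul, mul_one])
  obtain ⟨m, hm, hme⟩ := hg
  have hc : IsConj (E.hom v) (E.hom m) := isConj_iff.2 ⟨g, hme.symm⟩
  have hsw := M.not_swap_of_C0 hm.2
  rcases (M.invol_iff m).1 (E.two_hom.1 (two_of_isConj hc (E.two_hom.2 hv))) with h | h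
  · rcases (M.isL_iff m).1 h with rfl | h
    · rw [E.map_z] at hc; exact Or.inl hc.symm
    · rw [hsw.1] at h; exact absurd h (by simp)
  · rcases (M.isR_iff m).1 h with h | h
    · exact Or.inr ((E.isConj_of (M.conj_Q h)).trans hc.symm)
    · rw [hsw.2] at h; exact absurd h (by simp)

/-- The centre is not isolated in its Sylow subgroup. -/
lemma exists_fused_ne : ∃ m : M, m ≠ M.z ∧ IsConj t (E.hom m) := by
  by_contra hcon
  push Not at hcon
  haveI : Fact (Nat.Prime 2) := ⟨Nat.prime_two⟩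
  obtain ⟨P, hP⟩ := E.exists_sylow ht
  obtain ⟨N, hN, hodd, hcomm⟩ := S0215.result P t ht
    (show t ∈ (P : Subgroup G) by rw [hP]; exact ⟨M.z, M.A_le_S M.z_mem_A, E.map_z⟩) (fun g hg => by
      replace hg : g * t * g⁻¹ ∈ (P : Subgroup G) := hg
      rw [hP] at hg
      obtain ⟨m, -, hme⟩ := hg
      by_contra hne
      exact hcon m (fun h => hne (by rw [← hme, h, E.map_z])) (isConj_iff.2 ⟨g, hme.symm⟩))
  haveI := hN
  obtain ⟨k, hk⟩ := hodd
  have htt : t * t = 1 := (two_iff.1 ht).1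
  -- the group is the product of `N` and the centralizer
  have hsplit : ∀ g : G, ∃ n ∈ N, ∃ m : M, g = n * E.hom m := by
    intro g
    set b := g * t * g⁻¹ with hb
    have hbb : b * b = 1 := by rw [hb, conj_mul, htt, mul_one, mul_inv_cancel]
    have hmem : t * b ∈ N := by
      have := hcomm g
      rw [inv_eq_of_mul_eq_one_left htt] at this
      rwa [hb, ← mul_assoc, ← mul_assoc]
    have hpow : (t * b) ^ (2 * k + 1) = 1 := by
      rw [← hk]
      exact congrArg Subtype.val (pow_card_eq_one' (G := N) (x := ⟨t * b, hmem⟩))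
    have hc := exists_conj_of_odd htt hbb hpow
    set n := (t * b) ^ (k + 1)
    obtain ⟨m, hm⟩ := E.mem_iff.1 (show n * g * t = t * (n * g) by
      calc n * g * t = n * b * n⁻¹ * (n * g) := by rw [hb]; group
        _ = t * (n * g) := by rw [hc])
    exact ⟨n⁻¹, inv_mem (pow_mem hmem _), m, by rw [hm, inv_mul_cancel_left]⟩
  set H := N ⊔ M.C0.map E.hom with hH
  have hNC : ∀ m : M, E.hom m ∈ H → m ∈ M.C0 := by
    intro m hm
    rw [hH, mem_sup_of_normal_left] at hm
    obtain ⟨n, hn, _, ⟨c, hc, rfl⟩, he⟩ := hm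
    have hn' : E.hom (m * c⁻¹) = n := by rw [map_mul, map_inv, ← he, mul_inv_cancel_right]
    have h12 : n ^ 12 = 1 := by rw [← hn', ← map_pow, M.pow_twelve, map_one]
    have hcardn : n ^ (2 * k + 1) = 1 := by
      rw [← hk]; exact congrArg Subtype.val (pow_card_eq_one' (G := N) (x := ⟨n, hn⟩))
    have hodd' : Odd (orderOf n) := Odd.of_dvd_nat ⟨k, rfl⟩ (orderOf_dvd_of_pow_eq_one hcardn)
    have hmc : m * c⁻¹ ∈ M.C0 := by
      obtain ⟨j, hj⟩ := hodd'
      have hord : orderOf (m * c⁻¹) = 2 * j + 1 := by rw [← hj, ← hn', orderOf_injective E.hom E.inj]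
      have h1 := pow_orderOf_eq_one (m * c⁻¹)
      rw [hord, pow_succ', pow_mul] at h1
      have h2 := sq_mem_of_index_two M.C0_index (m * c⁻¹)
      rw [eq_inv_of_mul_eq_one_left h1]
      exact inv_mem (pow_mem h2 _)
    simpa using mul_mem hmc hc
  have hout : E.hom M.u ∉ H := fun h => M.swap_notMem_C0 (hNC _ h)
  refine hno H (index_eq_two_iff.2 ⟨E.hom M.u, fun g => ?_⟩)
  obtain ⟨n, hn, m, rfl⟩ := hsplit g
  have hmem : ∀ v : M, v ∈ M.C0 → n * E.hom v ∈ H := fun v hv =>
    mul_mem (mem_sup_left hn) (mem_sup_right (mem_map_of_mem _ hv))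
  by_cases hm : m ∈ M.C0
  · refine Or.inr ⟨hmem m hm, fun h => ?_⟩
    apply hout
    have := mul_mem (inv_mem (hmem m hm)) h
    rwa [inv_mul_cancel_left] at this
  · refine Or.inl ⟨?_, fun h => hm ?_⟩
    · rw [mul_assoc, ← map_mul]
      exact hmem _ ((mul_mem_iff_of_index_two M.C0_index).2 (iff_of_false hm M.swap_notMem_C0))
    · refine hNC m ?_
      have := mul_mem (inv_mem (mem_sup_left (T := M.C0.map E.hom) hn)) h
      rwa [inv_mul_cancel_left] at this

include E in
/-- The fusion pattern, after naming the classes of twelve. -/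
lemma exists_pattern :
    ∃ E' : Emb t, IsConj t (E'.hom M.u) ∧ IsConj (E'.hom M.q) (E'.hom M.u') := by
  have hu2 : M.u * M.u = 1 ∧ M.u ≠ 1 := (M.invol_iff _).2 (Or.inl M.isL_u)
  have hu'2 : M.u' * M.u' = 1 ∧ M.u' ≠ 1 := (M.invol_iff _).2 (Or.inr M.isR_u')
  have hor : IsConj t (E.hom M.u) ∨ IsConj t (E.hom M.u') := by
    obtain ⟨m, hmz, hm⟩ := E.exists_fused_ne ht hno
    rcases E.class_rep (E.two_hom.1 (two_of_isConj hm ht)) with h | h | h | h
    · exact absurd (E.inj (h.trans E.map_z.symm)) hmz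
    · exact Or.inl (hm.trans h.symm)
    · exact Or.inr (hm.trans h.symm)
    · exact absurd (hm.trans h.symm) (E.not_isConj_q ht)
  by_cases hu : IsConj t (E.hom M.u)
  · exact ⟨E, hu, (E.fused_cases ht hno hu'2).resolve_left fun h => E.not_both ht hu h⟩
  · have hu' := hor.resolve_left hu
    let E' : Emb t :=
      { hom := E.hom.comp M.twistEquiv.toMonoidHom
        inj := E.inj.comp M.twistEquiv.injective
        map_z := by show E.hom (M.twist M.z) = t; rw [M.twist_facts.1, E.map_z]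
        range_eq := by
          rw [MonoidHom.range_comp, MonoidHom.range_eq_top.2 M.twistEquiv.surjective, ← MonoidHom.range_eq_map,
            E.range_eq] }
    refine ⟨E', ?_, ?_⟩
    · show IsConj t (E.hom (M.twist M.u))
      rw [M.twist_facts.2.2.1]; exact hu'
    · show IsConj (E.hom (M.twist M.q)) (E.hom (M.twist M.u'))
      rw [M.twist_facts.2.1, M.twist_facts.2.2.2]
      exact (E.fused_cases ht hno hu2).resolve_left hu

end Emb

end Cfsg.Agent.H31.UFour
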