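import Cfsg.Agent.H31.UFour.Tables
import Cfsg.Agent.Symplectic.Center
import Cfsg.Prelude.Def_Classical

/-!
The group of 576 labels, represented in `PSp₄(3)`.
-/

set_option autoImplicit false
set_option maxRecDepth 20000

namespace Cfsg.Agent.H31.UFour

open Matrix

/-- `4 × 4` matrices. -/
abbrev M4 : Type := Matrix (Fin 2 ⊕ Fin 2) (Fin 2 ⊕ Fin 2) (ZMod 3)

/-- `Sp₄(3)`. -/
abbrev Sp43 : Type := ↥(Matrix.symplecticGroup (Fin 2) (ZMod 3))

instance : Fact (Nat.Prime 3) := ⟨Nat.prime_three⟩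

/-- The block embedding of two 2 × 2 matrices. -/
def blk (p q : V4) : M4 :=
  Matrix.fromBlocks !![p.1, 0; 0, q.1] !![p.2.1, 0; 0, q.2.1] !![p.2.2.1, 0; 0, q.2.2.1]
    !![p.2.2.2, 0; 0, q.2.2.2]

/-- The swap of the two planes. -/
def swapM : M4 := Matrix.fromBlocks !![0, 1; 1, 0] 0 0 !![0, 1; 1, 0]

/-- A power of the swap. -/
def wp (s : ℕ) : M4 := bif s == 0 then 1 else swapM

theorem blk_mul (p q p' q' : V4) : blk p q * blk p' q' = blk (mm p p') (mm q q') := by
  rw [blk, blk, blk, fromBlocks_multiply]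
  simp [mm]

theorem blk_neg (p q : V4) : blk (-p) (-q) = -blk p q := by
  rw [blk, blk, fromBlocks_neg]
  simp

theorem swap_blk (p q : V4) : swapM * blk p q = blk q p * swapM := by
  rw [blk, blk, swapM, fromBlocks_multiply, fromBlocks_multiply]
  simp

theorem swap_swap : swapM * swapM = 1 := by decide +kernel

theorem wp_mem : ∀ s : Fin 2, wp s * Matrix.J (Fin 2) (ZMod 3) * (wp s)ᵀ = Matrix.J (Fin 2) (ZMod 3) := by
  decide +kernel

theorem diag_transpose (a b : ZMod 3) : !![a, 0; 0, b]ᵀ = !![a, 0; 0, b] := by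
  ext i j
  fin_cases i <;> fin_cases j <;> rfl

theorem blk_mem {p q : V4} (hp : p.1 * p.2.2.2 - p.2.1 * p.2.2.1 = 1)
    (hq : q.1 * q.2.2.2 - q.2.1 * q.2.2.1 = 1) :
    blk p q ∈ Matrix.symplecticGroup (Fin 2) (ZMod 3) := by
  rw [SymplecticGroup.mem_iff, blk, Matrix.J, fromBlocks_transpose, fromBlocks_multiply,
    fromBlocks_multiply]
  have hp' : p.2.2.2 * p.1 - p.2.2.1 * p.2.1 = 1 := by linear_combination hp
  have hq' : q.2.2.2 * q.1 - q.2.2.1 * q.2.1 = 1 := by linear_combination hq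
  simp only [diag_transpose]
  congr 1 <;> ext i j <;> fin_cases i <;> fin_cases j <;> simp [Matrix.mul_apply, Fin.sum_univ_two] <;>
    first | ring1 | linear_combination hp | linear_combination -hp | linear_combination hq |
      linear_combination -hq

/-- The matrix of a label. -/
def mat (n : ℕ) : M4 := blk (sl (pa n)) (sl (pb n)) * wp (ps n)

theorem mat_mem {n : ℕ} (h : n < 576) : mat n ∈ Matrix.symplecticGroup (Fin 2) (ZMod 3) := by
  obtain ⟨h1, -, h2, h3⟩ := parts_lt h
  exact mul_mem (blk_mem (sl_facts ⟨_, h1⟩).2.2.2.2.2.2.1 (sl_facts ⟨_, h2⟩).2.2.2.2.2.2.1)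
    (SymplecticGroup.mem_iff.mpr (wp_mem ⟨_, h3⟩))

theorem mat_lab {a b s : ℕ} (ha : a < 24) (hb : b < 24) (hs : s < 2) :
    mat (lab a b s) = blk (sl a) (sl b) * wp s ∨ mat (lab a b s) = -(blk (sl a) (sl b) * wp s) := by
  by_cases h : a < 12
  · left
    have he : lab a b s = (a * 24 + b) * 2 + s := by
      simp [lab, Nat.blt, show Nat.ble (a + 1) 12 = true from Nat.ble_eq.mpr h, Nat.mod_eq_of_lt h]
    rw [mat, he, show pa ((a * 24 + b) * 2 + s) = a by simp only [pa]; omega,
      show pb ((a * 24 + b) * 2 + s) = b by simp only [pb]; omega,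
      show ps ((a * 24 + b) * 2 + s) = s by simp only [ps]; omega]
  · right
    have he : lab a b s = (a % 12 * 24 + (b + 12) % 24) * 2 + s := by
      have : Nat.blt a 12 = false := by rw [← Bool.not_eq_true, Nat.blt_eq]; exact h
      simp [lab, this]
    rw [mat, he, show pa ((a % 12 * 24 + (b + 12) % 24) * 2 + s) = a % 12 by simp only [pa]; omega,
      show pb ((a % 12 * 24 + (b + 12) % 24) * 2 + s) = (b + 12) % 24 by simp only [pb]; omega,
      show ps ((a % 12 * 24 + (b + 12) % 24) * 2 + s) = s by simp only [ps]; omega,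
      (sl_facts ⟨a, ha⟩).2.2.2.2.2.2.2.1 (not_lt.1 h), (sl_facts ⟨b, hb⟩).2.2.2.2.2.2.2.2, blk_neg,
      Matrix.neg_mul]

theorem mat_mul {x y : ℕ} (hx : x < 576) (hy : y < 576) :
    mat (nmul x y) = mat x * mat y ∨ mat (nmul x y) = -(mat x * mat y) := by
  obtain ⟨x1, -, x2, x3⟩ := parts_lt hx
  obtain ⟨y1, -, y2, y3⟩ := parts_lt hy
  rcases (show ps x = 0 ∨ ps x = 1 by omega) with h | h
  · have e : mat x * mat y =
        blk (sl (slMul (pa x) (pa y))) (sl (slMul (pb x) (pb y))) * wp ((ps x + ps y) % 2) := by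
      rw [mat, mat, h, Nat.zero_add, Nat.mod_eq_of_lt y3, (slMul_facts ⟨_, x1⟩ ⟨_, y1⟩).2,
        (slMul_facts ⟨_, x2⟩ ⟨_, y2⟩).2, ← blk_mul]
      simp [wp, mul_assoc]
    rw [e, nmul, h]
    exact mat_lab (slMul_facts ⟨_, x1⟩ ⟨_, y1⟩).1 (slMul_facts ⟨_, x2⟩ ⟨_, y2⟩).1
      (Nat.mod_lt _ (by norm_num))
  · have e : mat x * mat y =
        blk (sl (slMul (pa x) (pb y))) (sl (slMul (pb x) (pa y))) * wp ((ps x + ps y) % 2) := by
      rw [mat, mat, h, (slMul_facts ⟨_, x1⟩ ⟨_, y2⟩).2, (slMul_facts ⟨_, x2⟩ ⟨_, y1⟩).2, ← blk_mul,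
        show wp 1 = swapM from rfl, mul_assoc, ← mul_assoc swapM, swap_blk, mul_assoc _ swapM]
      rcases (show ps y = 0 ∨ ps y = 1 by omega) with h' | h' <;>
        simp [h', wp, mul_assoc, swap_swap]
    rw [e, nmul, h]
    exact mat_lab (slMul_facts ⟨_, x1⟩ ⟨_, y2⟩).1 (slMul_facts ⟨_, x2⟩ ⟨_, y1⟩).1
      (Nat.mod_lt _ (by norm_num))

/-- Reading off the label of a matrix. -/
def readM (g : M4) : ℕ :=
  if g (.inl 0) (.inl 0) = 0 ∧ g (.inl 0) (.inr 0) = 0 then
    lab (slIdx (g (.inl 0) (.inl 1), g (.inl 0) (.inr 1), g (.inr 0) (.inl 1), g (.inr 0) (.inr 1)))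
      (slIdx (g (.inl 1) (.inl 0), g (.inl 1) (.inr 0), g (.inr 1) (.inl 0), g (.inr 1) (.inr 0))) 1
  else
    lab (slIdx (g (.inl 0) (.inl 0), g (.inl 0) (.inr 0), g (.inr 0) (.inl 0), g (.inr 0) (.inr 0)))
      (slIdx (g (.inl 1) (.inl 1), g (.inl 1) (.inr 1), g (.inr 1) (.inl 1), g (.inr 1) (.inr 1))) 0

theorem read_mat : ∀ n : Fin 576, readM (mat n) = n ∧ readM (-mat n) = n := by
  decide +kernel

/-- The 576 labels. -/
def M : Type := Fin 576

namespace M

instance : DecidableEq M := inferInstanceAs (DecidableEq (Fin 576))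
instance : Fintype M := inferInstanceAs (Fintype (Fin 576))

/-- The label as a number. -/
def val (a : M) : ℕ := Fin.val (show Fin 576 from a)

/-- A number as a label. -/
def mk (n : ℕ) : M := (⟨n % 576, Nat.mod_lt _ (by decide)⟩ : Fin 576)

lemma val_lt (a : M) : a.val < 576 := Fin.isLt (show Fin 576 from a)

lemma val_inj {a b : M} : a.val = b.val ↔ a = b := Fin.val_inj

lemma val_mk {n : ℕ} (h : n < 576) : (mk n).val = n := Nat.mod_eq_of_lt h

lemma mk_val (a : M) : mk a.val = a := val_inj.1 (val_mk a.val_lt)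

lemma all_range {p : ℕ → Bool} (h : (List.range 576).all p = true) (a : M) : p a.val = true :=
  List.all_eq_true.1 h _ (List.mem_range.2 a.val_lt)

instance : One M := ⟨mk 0⟩
instance : Mul M := ⟨fun a b => mk (nmul a.val b.val)⟩
instance : Inv M := ⟨fun a => mk (ninv a.val)⟩

lemma one_val : (1 : M).val = 0 := val_mk (by decide)

lemma mul_val (a b : M) : (a * b).val = nmul a.val b.val := val_mk (nmul_lt a.val_lt b.val_lt)

lemma inv_val (a : M) : (a⁻¹).val = ninv a.val := val_mk (ninv_lt a.val_lt)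

/-- The element of `Sp₄(3)` of a label. -/
def spM (a : M) : Sp43 := ⟨mat a.val, mat_mem a.val_lt⟩

/-- The element of `PSp₄(3)` of a label. -/
def rep (a : M) : Cfsg.PSp 2 (ZMod 3) := QuotientGroup.mk (spM a)

lemma mk_eq_iff {g h : Sp43} :
    (QuotientGroup.mk g : Cfsg.PSp 2 (ZMod 3)) = QuotientGroup.mk h ↔
      (h : M4) = g ∨ (h : M4) = -(g : M4) := by
  rw [QuotientGroup.eq, Symplectic.mem_center_iff]
  constructor
  · rintro ⟨c, hc⟩
    have hh : ∀ v, (h : M4) *ᵥ v = c • ((g : M4) *ᵥ v) := fun v => by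
      have e := congrArg ((g : M4) *ᵥ ·) (hc v)
      simp only [Submonoid.coe_mul, mulVec_mulVec, mulVec_smul] at e
      rwa [← Matrix.mul_assoc, ← Submonoid.coe_mul, mul_inv_cancel, Submonoid.coe_one, Matrix.one_mul] at e
    have hc2 := Symplectic.scalar_sq (m := 2) (by norm_num) _ hc
    rcases sq_eq_one_iff.1 hc2 with rfl | rfl
    · exact Or.inl (Matrix.ext_of_mulVec_single fun i => by simpa using hh (Pi.single i 1))
    · exact Or.inr (Matrix.ext_of_mulVec_single fun i => by rw [Matrix.neg_mulVec, hh, neg_smul, one_smul])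
  · intro hh
    rcases hh with hh | hh
    · refine ⟨1, fun v => ?_⟩
      rw [show h = g from Subtype.ext hh, inv_mul_cancel, Submonoid.coe_one, one_mulVec, one_smul]
    · refine ⟨-1, fun v => ?_⟩
      rw [Submonoid.coe_mul, hh, Matrix.mul_neg, ← Submonoid.coe_mul, inv_mul_cancel, Submonoid.coe_one,
        Matrix.neg_mulVec, one_mulVec, neg_smul, one_smul]

lemma rep_mul (a b : M) : rep (a * b) = rep a * rep b := by
  rw [rep, rep, rep, ← QuotientGroup.mk_mul]
  refine (mk_eq_iff.2 ?_).symm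
  show mat (a * b).val = mat a.val * mat b.val ∨ mat (a * b).val = -(mat a.val * mat b.val)
  rw [mul_val]
  exact mat_mul a.val_lt b.val_lt

lemma rep_injective : Function.Injective rep := by
  intro a b h
  rw [← val_inj]
  have ha := read_mat ⟨a.val, a.val_lt⟩
  have hb := read_mat ⟨b.val, b.val_lt⟩
  rcases mk_eq_iff.1 h with h' | h'
  · exact ha.1.symm.trans ((congrArg readM h'.symm).trans hb.1)
  · exact ha.2.symm.trans ((congrArg readM h'.symm).trans hb.1)


lemma rep_one : rep 1 = 1 := by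
  rw [rep, ← QuotientGroup.mk_one]
  refine mk_eq_iff.2 (Or.inl ?_)
  show (1 : M4) = mat (1 : M).val
  rw [one_val]
  decide +kernel

lemma inv_check : ((List.range 576).all fun a => nmul (ninv a) a == 0) = true := by decide +kernel

lemma inv_mul' (a : M) : a⁻¹ * a = 1 := by
  rw [← val_inj, mul_val, inv_val, one_val]
  exact beq_iff_eq.1 (all_range inv_check a)

instance : Group M :=
  Group.ofLeftAxioms (fun a b c => rep_injective (by simp only [rep_mul, mul_assoc]))
    (fun a => rep_injective (by rw [rep_mul, rep_one, one_mul])) inv_mul'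

/-- The representation. -/
def repHom : M →* Cfsg.PSp 2 (ZMod 3) := MonoidHom.mk' rep rep_mul

lemma card_M : Nat.card M = 576 := by
  rw [show Nat.card M = Nat.card (Fin 576) from rfl, Nat.card_eq_fintype_card, Fintype.card_fin]

lemma card_filter (p : M → Prop) (q : ℕ → Bool) (h : ∀ a, p a ↔ q a.val = true) :
    Nat.card {a : M // p a} = ((List.range 576).filter q).length := by
  classical
  rw [Nat.card_eq_fintype_card, Fintype.card_subtype,
    ← List.toFinset_card_of_nodup (List.nodup_range.filter q),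
    ← Finset.card_image_of_injective _ (f := val) fun a b h => val_inj.1 h]
  congr 1
  ext n
  simp only [Finset.mem_image, Finset.mem_filter, Finset.mem_univ, true_and, List.mem_toFinset,
    List.mem_filter, List.mem_range, h]
  constructor
  · rintro ⟨a, ha, rfl⟩; exact ⟨a.val_lt, ha⟩
  · rintro ⟨hn, hq⟩; exact ⟨mk n, by rw [val_mk hn]; exact hq, val_mk hn⟩

end M

end Cfsg.Agent.H31.UFour
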