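import Cfsg.Agent.H31.UFour.CentQ
import Cfsg.Agent.H73.JankoOrder
import Cfsg.Agent.S0213

/-!
The order of the group is 25920, by Thompson's order formula.
-/

set_option autoImplicit false
set_option maxRecDepth 20000
set_option linter.unusedSectionVars false
set_option linter.style.haveILetI false

namespace Cfsg.Agent.H31.UFour

open Subgroup
open Cfsg.Agent.H86.MTwelve (two_iff two_of_isConj exists_normalizing)

variable {G : Type*} [Group G]

lemma eq_sq_of_mem_zpowers {w x : G} (h4 : (w * w) * (w * w) = 1) (hne : w * w ≠ 1) (hx : x * x = 1)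
    (hx1 : x ≠ 1) (hmem : x ∈ zpowers w) : x = w * w := by
  obtain ⟨k, rfl⟩ := mem_zpowers_iff.1 hmem
  have h4' : w ^ (4 : ℤ) = 1 := by
    rw [show (4 : ℤ) = ((4 : ℕ) : ℤ) from rfl, zpow_natCast, ← h4]
    simp [pow_succ, mul_assoc]
  have hk : ∀ j : ℤ, w ^ j = w ^ (j % 4) := fun j => by
    conv_lhs => rw [← Int.emod_add_mul_ediv j 4, zpow_add, zpow_mul, h4', one_zpow, mul_one]
  rw [hk] at hx hx1 ⊢
  have hnn := Int.emod_nonneg k (show (4 : ℤ) ≠ 0 by norm_num)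
  have hlt := Int.emod_lt_of_pos k (show (0 : ℤ) < 4 by norm_num)
  generalize k % 4 = r at hx hx1 hnn hlt ⊢
  interval_cases r
  · simp at hx1
  · simp only [zpow_one] at hx; exact absurd hx hne
  · exact zpow_two w
  · exfalso
    apply hne
    calc w * w = w ^ (4 : ℤ) * (w * w) := by rw [h4', one_mul]
      _ = w ^ (3 : ℤ) * w ^ (3 : ℤ) := by group
      _ = 1 := hx

lemma exists_fixed_three : ∀ f : Fin 5 → Fin 5, (∀ i, f (f i) = i) → f 0 = 1 →
    ∃ i, i ≠ 0 ∧ i ≠ 1 ∧ f i = i := by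
  decide +kernel

namespace Emb

variable {t : G} (E : Emb t) (ht : orderOf t = 2) [Finite G] (hF : E.Fused)

lemma t_comm (i : Fin 5) : E.Fv i * t = t * E.Fv i := by
  have h := E.Fv_comm i 0
  rwa [E.Fv_zero] at h

include ht hF

/-- An element of `H` exchanging the pair and fixing a third point. -/
lemma exists_swap : ∃ n ∈ E.H, n * E.Fv 2 = E.Fv 2 * n ∧ n * t * n⁻¹ = E.Fv 1 := by
  obtain ⟨E', hF', hq⟩ := E.exists_frame ht hF (w := 2) (by decide) (by decide)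
  obtain ⟨σ, -, hσ, -, -, h34⟩ := E.frame_five ht hF hF' hq
  obtain ⟨⟨y, hy⟩⟩ := (Nat.card_pos_iff.1 (by rw [M.card_mover]; norm_num :
    0 < Nat.card {y : M // M.IsMover y})).1
  have hn : E'.hom y ∈ E.H := E.mem_H.2 (by rw [← hq]; exact E'.comm_hom.2 hy.2.1)
  refine ⟨E'.hom y, hn, E'.comm y, (E.conj_t_mem ht hF hn).resolve_left fun h => hy.2.2 ?_⟩
  have hc : E'.hom y * t = t * E'.hom y := mul_inv_eq_iff_eq_mul.1 h
  have h3 : E'.hom y * E.Fv (σ 3) = E.Fv (σ 3) * E'.hom y := by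
    rcases h34 with h' | h' <;> rw [h'.1]
    · rwa [E.Fv_zero]
    · exact (E.comm_Fv_one_iff hn).2 hc
  rw [← hσ] at h3
  exact E'.comm_hom.1 h3

lemma conj_Fv_one {h : G} (hh : h ∈ E.H) (hs : h * t * h⁻¹ = E.Fv 1) : h * E.Fv 1 * h⁻¹ = t := by
  have hx : h * E.cx * h⁻¹ = E.cx := by rw [E.mem_H.1 hh, mul_inv_cancel_right]
  have e1 : E.Fv 1 = t * E.cx := by rw [cx_eq, ← mul_assoc, E.t_sq, one_mul]
  have e2 : t * E.cx * E.cx = t := by rw [mul_assoc, E.cx_sq, mul_one]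
  rw [e1, ← conj_mul, hs, hx, e1, e2]

/-- `H` has order 96. -/
lemma card_H : Nat.card E.H = 96 := by
  obtain ⟨n, hnH, -, hn⟩ := E.exists_swap ht hF
  have h1ne : E.Fv 1 ≠ t := fun h => by
    have := E.Fv_inj (h.trans E.Fv_zero.symm); exact absurd this (by decide)
  have hidx : ((centralizer ({t} : Set G)).subgroupOf E.H).index = 2 := by
    refine index_eq_two_iff.2 ⟨⟨n, hnH⟩, fun b => ?_⟩
    simp only [mem_subgroupOf, mem_centralizer_singleton_iff, coe_mul]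
    have key : ((b : G) * n) * t * ((b : G) * n)⁻¹ = (b : G) * E.Fv 1 * (b : G)⁻¹ := by rw [← hn]; group
    rcases E.conj_t_mem ht hF b.2 with hb | hb
    · refine Or.inr ⟨mul_inv_eq_iff_eq_mul.1 hb, fun h => ?_⟩
      rw [mul_inv_eq_iff_eq_mul.2 h] at key
      apply h1ne
      calc E.Fv 1 = (b : G)⁻¹ * ((b : G) * E.Fv 1 * (b : G)⁻¹) * b := by group
        _ = (b : G)⁻¹ * t * b := by rw [← key]
        _ = t := by rw [mul_assoc, ← mul_inv_eq_iff_eq_mul.1 hb, inv_mul_cancel_left]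
    · refine Or.inl ⟨?_, fun h => h1ne ?_⟩
      · rw [E.conj_Fv_one ht hF b.2 hb] at key
        exact mul_inv_eq_iff_eq_mul.1 key
      · rw [← hb, h, mul_inv_cancel_right]
  have h := card_mul_index ((centralizer ({t} : Set G)).subgroupOf E.H)
  rw [hidx] at h
  have hc : Nat.card ↥((centralizer ({t} : Set G)).subgroupOf E.H) = 48 := by
    rw [← E.card_centt ht hF, ← card_map_of_injective E.H.subtype_injective
      (K := (centralizer ({t} : Set G)).subgroupOf E.H), subgroupOf_map_subtype]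
  rw [hc] at h
  exact h.symm

/-- `H` permutes the five points. -/
lemma exists_perm_Fv {h : G} (hh : h ∈ E.H) (k : Fin 5) : ∃ j, E.Fv j = h * E.Fv k * h⁻¹ := by
  obtain ⟨n, hnH, hn2, hn⟩ := E.exists_swap ht hF
  have hconjH : ∀ {g : G}, g ∈ E.H → ∀ i, g * E.Fv i * g⁻¹ ∈ E.H := fun hg i =>
    mul_mem (mul_mem hg (E.Fv_mem_H i)) (inv_mem hg)
  have hfix : ∀ {g : G}, g ∈ E.H → g * t * g⁻¹ = t → ∀ i, ∃ j, E.Fv j = g * E.Fv i * g⁻¹ := by
    intro g hg hgt i
    refine E.eq_Fv ht hF ((E.conj_Fv ht hF i).trans (isConj_iff.2 ⟨g, rfl⟩)) ?_ (hconjH hg i)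
    calc g * E.Fv i * g⁻¹ * t = g * E.Fv i * g⁻¹ * (g * t * g⁻¹) := by rw [hgt]
      _ = g * t * g⁻¹ * (g * E.Fv i * g⁻¹) := by
        rw [conj_mul, conj_mul, E.t_comm]
      _ = t * (g * E.Fv i * g⁻¹) := by rw [hgt]
  rcases E.conj_t_mem ht hF hh with hht | hht
  · exact hfix hh hht k
  · obtain ⟨i, hi⟩ := E.mem_R ht hF (w := 2) (by decide) (by decide)
      ((E.conj_Fv ht hF k).trans (isConj_iff.2 ⟨n, rfl⟩)) ⟨mem_centralizer_singleton_iff.2 (by
        calc n * E.Fv k * n⁻¹ * E.Fv 2 = n * E.Fv k * n⁻¹ * (n * E.Fv 2 * n⁻¹) := by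
              rw [hn2, mul_inv_cancel_right]
          _ = n * E.Fv 2 * n⁻¹ * (n * E.Fv k * n⁻¹) := by rw [conj_mul, conj_mul, E.Fv_comm]
          _ = _ := by rw [hn2, mul_inv_cancel_right]), hconjH hnH k⟩
    have hb : h * n⁻¹ * t * (h * n⁻¹)⁻¹ = t := by
      calc h * n⁻¹ * t * (h * n⁻¹)⁻¹ = h * n⁻¹ * (n * E.Fv 1 * n⁻¹) * (h * n⁻¹)⁻¹ := by
            rw [E.conj_Fv_one ht hF hnH hn]
        _ = h * E.Fv 1 * h⁻¹ := by group
        _ = t := E.conj_Fv_one ht hF hh hht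
    obtain ⟨j, hj⟩ := hfix (mul_mem hh (inv_mem hnH)) hb i
    refine ⟨j, hj.trans ?_⟩
    rw [hi]; group

/-- The elements of the first class in `H` are the five. -/
lemma five_of_H {v : G} (hv : IsConj t v) (hvH : v ∈ E.H) : ∃ i, E.Fv i = v := by
  obtain ⟨h, hh, i, hi⟩ := E.conj_to_five ht hF hv hvH
  obtain ⟨j, hj⟩ := E.exists_perm_Fv ht hF (inv_mem hh) i
  exact ⟨j, by rw [hj, hi]; group⟩

/-- Pairs through the centre. -/
lemma card_pairs_t :
    Nat.card {p : G × G // IsConj t p.1 ∧ IsConj E.cx p.2 ∧ t ∈ zpowers (p.1 * p.2)} = 108 := by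
  rw [← M.card_pairs]
  symm
  let f : {a : M × M // M.IsL a.1 ∧ M.IsR a.2 ∧ M.z ∈ zpowers (a.1 * a.2)} →
      {p : G × G // IsConj t p.1 ∧ IsConj E.cx p.2 ∧ t ∈ zpowers (p.1 * p.2)} := fun a =>
    ⟨(E.hom a.1.1, E.hom a.1.2), E.conj_of_L ht hF a.2.1,
      (E.conj_cx hF).symm.trans (E.conj_of_R hF a.2.2.1), by
      have h := mem_map_of_mem E.hom a.2.2.2
      rwa [MonoidHom.map_zpowers, E.map_z, map_mul] at h⟩
  refine Nat.card_congr (Equiv.ofBijective f ⟨fun a b h => ?_, ?_⟩)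
  · have h' := congrArg Subtype.val h
    exact Subtype.ext (Prod.ext (E.inj (congrArg Prod.fst h')) (E.inj (congrArg Prod.snd h')))
  · rintro ⟨⟨u, v⟩, hu, hv, hz⟩
    have h2 := two_iff.1 (two_of_isConj hv (E.two_hom.2 ((M.invol_iff _).2 (Or.inr M.isR_u'))))
    obtain ⟨hu', hv'⟩ := H73.Janko.mem_centralizer_of_mem_zpowers (two_iff.1 (two_of_isConj hu ht)).1
      h2.1 (two_iff.1 ht).1 hz
    obtain ⟨a, rfl⟩ := E.mem_iff.1 (mem_centralizer_singleton_iff.1 hu')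
    obtain ⟨b, rfl⟩ := E.mem_iff.1 (mem_centralizer_singleton_iff.1 hv')
    refine ⟨⟨(a, b), (E.conj_iff ht hF a).1.1 hu, (E.conj_iff ht hF b).2.1 ((E.conj_cx hF).trans hv), ?_⟩, rfl⟩
    show M.z ∈ zpowers (a * b)
    refine (mem_map_iff_mem E.inj).1 ?_
    rw [MonoidHom.map_zpowers, map_mul, E.map_z]
    exact hz

lemma cx_invol : E.cx * E.cx = 1 ∧ E.cx ≠ 1 :=
  two_iff.1 (E.two_hom.2 ((M.invol_iff _).2 (Or.inr M.isR_u')))

/-- A partner of a point commuting with it is determined. -/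
lemma partner_comm {k : Fin 5} {b : G} (hb : b * b = 1) (hc : b * E.Fv k = E.Fv k * b)
    (hx : E.cx ∈ zpowers (E.Fv k * b)) : b = E.Fv k * E.cx := by
  obtain ⟨j, hj⟩ := mem_zpowers_iff.1 hx
  have h2 : (E.Fv k * b) ^ (2 : ℤ) = 1 := by
    rw [zpow_two]
    calc E.Fv k * b * (E.Fv k * b) = E.Fv k * (b * E.Fv k) * b := by group
      _ = (E.Fv k * E.Fv k) * (b * b) := by rw [hc]; group
      _ = 1 := by rw [E.Fv_sq, hb, one_mul]
  rcases Int.even_or_odd j with ⟨i, rfl⟩ | ⟨i, rfl⟩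
  · rw [← two_mul, zpow_mul, h2, one_zpow] at hj
    exact absurd hj.symm (E.cx_invol ht hF).2
  · rw [zpow_add, zpow_mul, h2, one_zpow, one_mul, zpow_one] at hj
    rw [← hj, ← mul_assoc, E.Fv_sq, one_mul]

/-- A partner of a point which moves it meets the pair only. -/
lemma partner_move {k : Fin 5} {b : G} (hb : b * b = 1) (hbH : b ∈ E.H) (hc : b * E.Fv k ≠ E.Fv k * b)
    (hx : E.cx ∈ zpowers (E.Fv k * b)) : k = 0 ∨ k = 1 := by
  obtain ⟨j, hj⟩ := E.exists_perm_Fv ht hF hbH k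
  rw [inv_eq_of_mul_eq_one_left hb] at hj
  have hw : (E.Fv k * b) * (E.Fv k * b) = E.Fv k * E.Fv j := by rw [hj]; group
  have hjk : j ≠ k := fun h => by
    apply hc
    calc b * E.Fv k = b * E.Fv k * (b * b) := by rw [hb, mul_one]
      _ = (b * E.Fv k * b) * b := by group
      _ = E.Fv k * b := by rw [← hj, h]
  have h4 : (E.Fv k * b) * (E.Fv k * b) * ((E.Fv k * b) * (E.Fv k * b)) = 1 := by
    rw [hw]
    calc E.Fv k * E.Fv j * (E.Fv k * E.Fv j) = E.Fv k * (E.Fv j * E.Fv k) * E.Fv j := by group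
      _ = (E.Fv k * E.Fv k) * (E.Fv j * E.Fv j) := by rw [E.Fv_comm j k]; group
      _ = 1 := by rw [E.Fv_sq, E.Fv_sq, one_mul]
  have hne : (E.Fv k * b) * (E.Fv k * b) ≠ 1 := by
    rw [hw]
    intro h
    exact hjk (E.Fv_inj (by
      rw [← inv_eq_of_mul_eq_one_right h, inv_eq_of_mul_eq_one_left (E.Fv_sq k)]))
  have he := eq_sq_of_mem_zpowers h4 hne (E.cx_invol ht hF).1 (E.cx_invol ht hF).2 hx
  rw [hw, cx, Fv, Fv, ← map_mul, E.eq_iff] at he
  rcases M.five_pair_u' k j he.symm with h | h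
  · exact Or.inl h.1
  · exact Or.inr h.1

/-- The involutions of `H` moving the pair. -/
def Wset : Type _ := {b : G // b ∈ E.H ∧ b * b = 1 ∧ b * t ≠ t * b}

omit ht hF in
lemma comm_pair {k : Fin 5} (hk : k = 0 ∨ k = 1) {b : G} (hbH : b ∈ E.H) :
    b * E.Fv k = E.Fv k * b ↔ b * t = t * b := by
  rcases hk with rfl | rfl
  · rw [E.Fv_zero]
  · exact E.comm_Fv_one_iff hbH

/-- Partners of a point outside the pair. -/
lemma card_B_out {k : Fin 5} (h0 : k ≠ 0) (h1 : k ≠ 1) :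
    Nat.card {b : G // IsConj E.cx b ∧ E.cx ∈ zpowers (E.Fv k * b)} = 1 := by
  rw [Nat.card_eq_one_iff_unique]
  have hcx := E.cx_invol ht hF
  constructor
  · refine ⟨fun a b => ?_⟩
    have key : ∀ c : {b : G // IsConj E.cx b ∧ E.cx ∈ zpowers (E.Fv k * b)}, c.1 = E.Fv k * E.cx := by
      rintro ⟨b, hb, hx⟩
      have hb2 := two_iff.1 (two_of_isConj hb (two_iff.2 hcx))
      refine E.partner_comm ht hF hb2.1 ?_ hx
      by_contra hc
      have hbH := (H73.Janko.mem_centralizer_of_mem_zpowers (E.Fv_sq k) hb2.1 hcx.1 hx).2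
      exact (E.partner_move ht hF hb2.1 hbH hc hx).elim h0 h1
    exact Subtype.ext ((key a).trans (key b).symm)
  · refine ⟨⟨E.Fv k * E.cx, ?_, ?_⟩⟩
    · rw [cx, Fv, ← map_mul]
      exact (E.conj_cx hF).symm.trans (E.conj_of_R hF (M.five_mul_u' h0 h1))
    · rw [← mul_assoc, E.Fv_sq, one_mul]
      exact mem_zpowers _

/-- Partners of a point of the pair. -/
lemma card_B_pair {k : Fin 5} (hk : k = 0 ∨ k = 1) :
    Nat.card {b : G // IsConj E.cx b ∧ E.cx ∈ zpowers (E.Fv k * b)} = Nat.card E.Wset := by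
  have hcx := E.cx_invol ht hF
  refine Nat.card_congr (Equiv.subtypeEquivRight fun b => ⟨?_, ?_⟩)
  · rintro ⟨hb, hx⟩
    have hb2 := two_iff.1 (two_of_isConj hb (two_iff.2 hcx))
    have hbH := (H73.Janko.mem_centralizer_of_mem_zpowers (E.Fv_sq k) hb2.1 hcx.1 hx).2
    refine ⟨hbH, hb2.1, fun hc => ?_⟩
    have he := E.partner_comm ht hF hb2.1 ((E.comm_pair hk hbH).2 hc) hx
    have hval : b = E.Fv 1 ∨ b = E.Fv 0 := by
      rcases hk with rfl | rfl
      · left; rw [he, E.Fv_zero, cx_eq, ← mul_assoc, E.t_sq, one_mul]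
      · right
        rw [he, cx_eq, ← mul_assoc, E.t_comm, mul_assoc, E.Fv_sq, mul_one, E.Fv_zero]
    refine E.not_isConj_q ht ?_
    rcases hval with rfl | rfl
    · exact (E.conj_Fv ht hF 1).trans (hb.symm.trans (E.conj_cx hF).symm)
    · exact (E.conj_Fv ht hF 0).trans (hb.symm.trans (E.conj_cx hF).symm)
  · rintro ⟨hbH, hb, hc⟩
    have hb1 : b ≠ 1 := fun h => hc (by rw [h, one_mul, mul_one])
    have hbt : b * t * b⁻¹ = E.Fv 1 :=
      (E.conj_t_mem ht hF hbH).resolve_left fun h => hc (mul_inv_eq_iff_eq_mul.1 h)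
    have hbt' := E.conj_Fv_one ht hF hbH hbt
    rw [inv_eq_of_mul_eq_one_left hb] at hbt hbt'
    refine ⟨?_, ?_⟩
    · rcases E.class_cases ht hF (two_iff.2 ⟨hb, hb1⟩) with h | h
      · obtain ⟨i, rfl⟩ := E.five_of_H ht hF h hbH
        exact absurd (E.t_comm i) hc
      · exact (E.conj_cx hF).symm.trans h
    · refine mem_zpowers_iff.2 ⟨2, ?_⟩
      rw [zpow_two]
      rcases hk with rfl | rfl
      · calc E.Fv 0 * b * (E.Fv 0 * b) = E.Fv 0 * (b * E.Fv 0 * b) := by group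
          _ = E.cx := by rw [E.Fv_zero, hbt, ← cx_eq]
      · calc E.Fv 1 * b * (E.Fv 1 * b) = E.Fv 1 * (b * E.Fv 1 * b) := by group
          _ = E.cx := by rw [hbt', cx_eq, E.t_comm 1]

/-- There are twelve involutions in `H` moving the pair. -/
lemma card_Wset : Nat.card E.Wset = 12 := by
  classical
  choose Ef hFf hqf using fun w : {w : Fin 5 // w ≠ 0 ∧ w ≠ 1} =>
    E.exists_frame ht hF w.2.1 w.2.2
  choose σ hσb hσ hσ0 _hall h34 using fun w => E.frame_five ht hF (hFf w) (hqf w)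
  have hH : ∀ w (y : M), y * M.q = M.q * y → (Ef w).hom y ∈ E.H := fun w y hy =>
    E.mem_H.2 (by rw [← hqf w]; exact (Ef w).comm_hom.2 hy)
  have hpair : ∀ w, σ w 3 = 0 ∨ σ w 3 = 1 := fun w => (h34 w).imp And.left And.left
  let Φ : ({w : Fin 5 // w ≠ 0 ∧ w ≠ 1}) × {y : M // M.IsMover y} → E.Wset := fun p =>
    ⟨(Ef p.1).hom p.2.1, hH _ _ p.2.2.2.1, by
      refine ⟨by rw [← map_mul, p.2.2.1.1, map_one], fun hc => p.2.2.2.2 ((Ef p.1).comm_hom.1 ?_)⟩
      rw [hσ]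
      exact (E.comm_pair (hpair _) (hH _ _ p.2.2.2.1)).2 hc⟩
  have hbij : Function.Bijective Φ := by
    constructor
    · rintro ⟨w, y⟩ ⟨w', y'⟩ h
      have h' : (Ef w).hom y.1 = (Ef w').hom y'.1 := congrArg Subtype.val h
      have hw : w = w' := by
        by_contra hne
        obtain ⟨j, hj⟩ := (hσb w).2 w'.1
        have hc : (Ef w).hom y.1 * E.Fv w'.1 = E.Fv w'.1 * (Ef w).hom y.1 := by
          rw [h']; exact (Ef w').comm y'.1
        rw [← hj, ← hσ] at hc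
        have hc' := (Ef w).comm_hom.1 hc
        obtain ⟨hm1, hm2⟩ := M.mover_moves y.2
        have hj' : j = 0 ∨ j = 1 ∨ j = 2 ∨ j = 3 ∨ j = 4 := by omega
        rcases hj' with rfl | rfl | rfl | rfl | rfl
        · exact hne (Subtype.ext ((hσ0 w).symm.trans hj))
        · exact hm1 hc'
        · exact hm2 hc'
        · exact y.2.2.2 hc'
        · rcases h34 w with h4 | h4
          · exact w'.2.2 (hj.symm.trans h4.2)
          · exact w'.2.1 (hj.symm.trans h4.2)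
      subst hw
      rw [Subtype.ext ((Ef w).inj h')]
    · rintro ⟨b, hbH, hb, hc⟩
      have hbt : b * t * b⁻¹ = E.Fv 1 :=
        (E.conj_t_mem ht hF hbH).resolve_left fun h => hc (mul_inv_eq_iff_eq_mul.1 h)
      choose f hf using E.exists_perm_Fv ht hF hbH
      have hinv : b⁻¹ = b := inv_eq_of_mul_eq_one_left hb
      obtain ⟨i, hi0, hi1, hi⟩ := exists_fixed_three f (fun i => E.Fv_inj (by
        rw [hf, hf, hinv]
        calc b * (b * E.Fv i * b) * b = (b * b) * E.Fv i * (b * b) := by group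
          _ = E.Fv i := by rw [hb, one_mul, mul_one])) (E.Fv_inj (by rw [hf, E.Fv_zero, hbt]))
      have hcomm : b * E.Fv i = E.Fv i * b := by
        have h := hf i
        rw [hi] at h
        exact mul_inv_eq_iff_eq_mul.1 h.symm
      obtain ⟨y, hy⟩ := (Ef ⟨i, hi0, hi1⟩).mem_iff.1 hcomm
      have hy2 : y * y = 1 ∧ y ≠ 1 := (Ef ⟨i, hi0, hi1⟩).two_hom.1 (by
        rw [hy]; exact two_iff.2 ⟨hb, fun h => hc (by rw [h, one_mul, mul_one])⟩)
      refine ⟨(⟨i, hi0, hi1⟩, ⟨y, hy2, (Ef ⟨i, hi0, hi1⟩).comm_hom.1 ?_, fun h3 => hc ?_⟩), Subtype.ext hy⟩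
      · rw [hy, hqf]; exact E.mem_H.1 hbH
      · have := (Ef ⟨i, hi0, hi1⟩).comm_hom.2 h3
        rw [hy, hσ] at this
        exact (E.comm_pair (hpair _) hbH).1 this
  rw [← Nat.card_congr (Equiv.ofBijective Φ hbij), Nat.card_prod, M.card_mover, Nat.card_eq_fintype_card]
  rfl

/-- Pairs through the involution of the second class. -/
lemma card_pairs_x :
    Nat.card {p : G × G // IsConj t p.1 ∧ IsConj E.cx p.2 ∧ E.cx ∈ zpowers (p.1 * p.2)} = 27 := by
  classical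
  have hcx := E.cx_invol ht hF
  let Φ : (Σ k : Fin 5, {b : G // IsConj E.cx b ∧ E.cx ∈ zpowers (E.Fv k * b)}) →
      {p : G × G // IsConj t p.1 ∧ IsConj E.cx p.2 ∧ E.cx ∈ zpowers (p.1 * p.2)} := fun s =>
    ⟨(E.Fv s.1, s.2.1), E.conj_Fv ht hF s.1, s.2.2.1, s.2.2.2⟩
  have hbij : Function.Bijective Φ := by
    constructor
    · rintro ⟨k, b⟩ ⟨k', b'⟩ h
      have h' := congrArg Subtype.val h
      have hk : k = k' := E.Fv_inj (congrArg Prod.fst h')
      subst hk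
      obtain rfl : b = b' := Subtype.ext (congrArg Prod.snd h')
      rfl
    · rintro ⟨⟨a, b⟩, ha, hb, hx⟩
      have hb2 := two_iff.1 (two_of_isConj hb (two_iff.2 hcx))
      have haH := (H73.Janko.mem_centralizer_of_mem_zpowers (two_iff.1 (two_of_isConj ha ht)).1 hb2.1
        hcx.1 hx).1
      obtain ⟨k, rfl⟩ := E.five_of_H ht hF ha haH
      exact ⟨⟨k, b, hb, hx⟩, rfl⟩
  rw [← Nat.card_congr (Equiv.ofBijective Φ hbij), Nat.card_sigma, Fin.sum_univ_five,
    E.card_B_pair ht hF (Or.inl rfl), E.card_B_pair ht hF (Or.inr rfl), E.card_Wset ht hF,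
    E.card_B_out ht hF (by decide) (by decide), E.card_B_out ht hF (by decide) (by decide),
    E.card_B_out ht hF (by decide) (by decide)]

/-- The order of the group. -/
theorem card_eq : Nat.card G = 25920 := by
  have h2 := two_iff.2 (E.cx_invol ht hF)
  have h := S0213.result t E.cx ht h2
    (fun h => E.not_isConj_q ht (h.trans (E.conj_cx hF).symm))
    (fun v hv => (E.class_cases ht hF hv).imp id fun h => (E.conj_cx hF).symm.trans h)
  rw [E.card_pairs_t ht hF, E.card_pairs_x ht hF, E.finite_cent] at h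
  rw [h, show Nat.card ↥(centralizer ({E.cx} : Set G)) = 96 from E.card_H ht hF]

end Emb

end Cfsg.Agent.H31.UFour
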