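import Mathlib

/-!
Tables of `SL₂(3)` and the labels of the centralizer of a 2-central involution of `PSp₄(3)`:
a label `((a % 12) * 24 + b) * 2 + s` stands for the class of `(a, b)` modulo `-1`, followed by the swap
when `s = 1`.
-/

set_option autoImplicit false

namespace Cfsg.Agent.H31.UFour

/-- The entries of a 2 × 2 matrix. -/
abbrev V4 : Type := ZMod 3 × ZMod 3 × ZMod 3 × ZMod 3

/-- The elements of `SL₂(3)`: label `a + 12` is the negative of label `a`. -/
def slList : List V4 :=
  [(1, 0, 0, 1), (0, 1, 2, 0), (0, 1, 2, 1), (0, 1, 2, 2), (1, 0, 1, 1), (1, 0, 2, 1),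
    (1, 1, 0, 1), (1, 1, 1, 2), (1, 1, 2, 0), (1, 2, 0, 1), (1, 2, 1, 0), (1, 2, 2, 2),
    (2, 0, 0, 2), (0, 2, 1, 0), (0, 2, 1, 2), (0, 2, 1, 1), (2, 0, 2, 2), (2, 0, 1, 2),
    (2, 2, 0, 2), (2, 2, 2, 1), (2, 2, 1, 0), (2, 1, 0, 2), (2, 1, 2, 0), (2, 1, 1, 1)]

/-- Rows of the multiplication table of `SL₂(3)`, five bits per entry. -/
def slRows : List ℕ :=
  [984818244535754528103549039458486304,
    313409793902268120892008027638027649,
    348499548499450028988972280354298370,
    270527668505909834016402497812979235,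
    903077639191565595097231951681064004,
    942061620258895190543946523137344613,
    633963698651743409296930781485616838,
    548454130617188720727671432101286631,
    591332571787819992972211350397143720,
    168194511298240828353655273795458313,
    211072837452988343302716759211278538,
    4716988777893529501765785851597035,
    470278375199658062065627471303653804,
    795821345948654979644219092015195149,
    830911100545836887741183344731465870,
    752939220552296692768613562190146735,
    388537769855469129059310383526231504,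
    427521750922798724506024954982512113,
    150578561234756213853295719413325138,
    65068993200201525284036370028994931,
    107947434370832797528576288324852020,
    681760795261865129685505388635211413,
    724639121416612644634566874051031638,
    518283272741517830833615900691350135]

/-- Inverses in `SL₂(3)`, five bits per entry. -/
def slInvPack : ℕ := 475829436188628512358561224823810464

/-- An element of `SL₂(3)` by its label. -/
def sl (a : ℕ) : V4 := slList.getD a 0

/-- The label of an element of `SL₂(3)`. -/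
def slIdx (p : V4) : ℕ := slList.idxOf p

/-- Product of labels of `SL₂(3)`. -/
def slMul (a b : ℕ) : ℕ := (slRows.getD a 0 >>> (5 * b)) &&& 31

/-- Inverse of a label of `SL₂(3)`. -/
def slInv (a : ℕ) : ℕ := (slInvPack >>> (5 * a)) &&& 31

/-- Product of matrices given by entries. -/
def mm (p q : V4) : V4 :=
  (p.1 * q.1 + p.2.1 * q.2.2.1, p.1 * q.2.1 + p.2.1 * q.2.2.2,
    p.2.2.1 * q.1 + p.2.2.2 * q.2.2.1, p.2.2.1 * q.2.1 + p.2.2.2 * q.2.2.2)

theorem sl_facts : ∀ a : Fin 24, slIdx (sl a) = a ∧ slInv a < 24 ∧ slMul (slInv a) a = 0 ∧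
    slMul a (slInv a) = 0 ∧ slMul a 0 = a ∧ slMul 0 a = a ∧
    (sl a).1 * (sl a).2.2.2 - (sl a).2.1 * (sl a).2.2.1 = 1 ∧
    (12 ≤ (a : ℕ) → sl ((a : ℕ) % 12) = -sl a) ∧ sl (((a : ℕ) + 12) % 24) = -sl a := by
  decide +kernel

theorem slMul_facts : ∀ a b : Fin 24, slMul a b < 24 ∧ sl (slMul a b) = mm (sl a) (sl b) := by
  decide +kernel

theorem sl_cover : ∀ w x y v : ZMod 3, w * v - x * y = 1 →
    slIdx (w, x, y, v) < 24 ∧ sl (slIdx (w, x, y, v)) = (w, x, y, v) := by
  decide +kernel

/-- A label from its three components. -/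
def lab (a b s : ℕ) : ℕ := ((a % 12) * 24 + (bif Nat.blt a 12 then b else (b + 12) % 24)) * 2 + s

/-- First component of a label. -/
def pa (n : ℕ) : ℕ := n / 48

/-- Second component of a label. -/
def pb (n : ℕ) : ℕ := n / 2 % 24

/-- The swap component of a label. -/
def ps (n : ℕ) : ℕ := n % 2

/-- Product of labels. -/
def nmul (x y : ℕ) : ℕ :=
  bif ps x == 0 then lab (slMul (pa x) (pa y)) (slMul (pb x) (pb y)) ((ps x + ps y) % 2)
  else lab (slMul (pa x) (pb y)) (slMul (pb x) (pa y)) ((ps x + ps y) % 2)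

/-- Inverse of a label. -/
def ninv (x : ℕ) : ℕ :=
  bif ps x == 0 then lab (slInv (pa x)) (slInv (pb x)) (ps x)
  else lab (slInv (pb x)) (slInv (pa x)) (ps x)

theorem parts_lt {n : ℕ} (h : n < 576) : pa n < 24 ∧ pa n < 12 ∧ pb n < 24 ∧ ps n < 2 := by
  simp only [pa, pb, ps]; omega

theorem lab_lt (a : ℕ) {b s : ℕ} (hb : b < 24) (hs : s < 2) : lab a b s < 576 := by
  have : a % 12 < 12 := Nat.mod_lt _ (by norm_num)
  unfold lab
  cases Nat.blt a 12 <;> simp only [cond_true, cond_false] <;> omega

theorem nmul_lt {x y : ℕ} (hx : x < 576) (hy : y < 576) : nmul x y < 576 := by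
  obtain ⟨x1, -, x2, x3⟩ := parts_lt hx
  obtain ⟨y1, -, y2, y3⟩ := parts_lt hy
  unfold nmul
  cases ps x == 0 <;> simp only [cond_true, cond_false] <;>
    refine lab_lt _ ?_ (Nat.mod_lt _ (by norm_num))
  · exact (slMul_facts ⟨_, x2⟩ ⟨_, y1⟩).1
  · exact (slMul_facts ⟨_, x2⟩ ⟨_, y2⟩).1

theorem ninv_lt {x : ℕ} (hx : x < 576) : ninv x < 576 := by
  obtain ⟨x1, -, x2, x3⟩ := parts_lt hx
  unfold ninv
  cases ps x == 0 <;> simp only [cond_true, cond_false] <;> refine lab_lt _ ?_ x3
  · exact (sl_facts ⟨_, x1⟩).2.1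
  · exact (sl_facts ⟨_, x2⟩).2.1

end Cfsg.Agent.H31.UFour
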