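import Cfsg.Agent.H31.UFour.Facts
import Cfsg.Agent.H27.SpFourTwo
import Cfsg.Agent.Symplectic.Order

/-!
Every centralizer of a 2-central involution of `PSp₄(3)` is the group of 576 labels.
-/

set_option autoImplicit false
set_option maxRecDepth 20000
set_option linter.unusedSectionVars false
set_option linter.style.haveILetI false

namespace Cfsg.Agent.H31.UFour

open Matrix
open scoped Pointwise

/-- An embedding of the group of labels onto the centralizer of `x`. -/
structure Emb {G : Type*} [Group G] (x : G) where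
  /-- The embedding. -/
  hom : M →* G
  inj : Function.Injective hom
  range_eq : hom.range = Subgroup.centralizer ({x} : Set G)
  map_z : hom M.z = x

namespace Emb

variable {G : Type*} [Group G] {x : G}

lemma mem_iff (E : Emb x) {g : G} : g * x = x * g ↔ ∃ m : M, E.hom m = g := by
  rw [← MonoidHom.mem_range, E.range_eq, Subgroup.mem_centralizer_singleton_iff]

lemma comm (E : Emb x) (m : M) : E.hom m * x = x * E.hom m := E.mem_iff.2 ⟨m, rfl⟩

/-- Conjugate embedding. -/
noncomputable def conj (E : Emb x) (g : G) : Emb (g * x * g⁻¹) where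
  hom := (MulAut.conj g).toMonoidHom.comp E.hom
  inj := (MulAut.conj g).injective.comp E.inj
  map_z := by show g * E.hom M.z * g⁻¹ = _; rw [E.map_z]
  range_eq := by
    ext y
    rw [MonoidHom.mem_range, Subgroup.mem_centralizer_singleton_iff]
    constructor
    · rintro ⟨m, rfl⟩
      have h := E.comm m
      calc g * E.hom m * g⁻¹ * (g * x * g⁻¹) = g * (E.hom m * x) * g⁻¹ := by group
        _ = g * x * g⁻¹ * (g * E.hom m * g⁻¹) := by rw [h]; group
    · intro hy
      obtain ⟨m, hm⟩ := E.mem_iff.1 (show (g⁻¹ * y * g) * x = x * (g⁻¹ * y * g) by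
        calc g⁻¹ * y * g * x = g⁻¹ * (y * (g * x * g⁻¹)) * g := by group
          _ = x * (g⁻¹ * y * g) := by rw [hy]; group)
      refine ⟨m, ?_⟩
      show g * E.hom m * g⁻¹ = y
      rw [hm]; group

lemma conj_apply (E : Emb x) (g : G) (m : M) : (E.conj g).hom m = g * E.hom m * g⁻¹ := rfl

/-- Transport along an isomorphism. -/
noncomputable def map {H : Type*} [Group H] (E : Emb x) (e : G ≃* H) : Emb (e x) where
  hom := e.toMonoidHom.comp E.hom
  inj := e.injective.comp E.inj
  map_z := congrArg e E.map_z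
  range_eq := by
    ext y
    rw [MonoidHom.mem_range, Subgroup.mem_centralizer_singleton_iff]
    constructor
    · rintro ⟨m, rfl⟩
      show e (E.hom m) * e x = e x * e (E.hom m)
      rw [← map_mul, ← map_mul, E.comm]
    · intro hy
      obtain ⟨m, hm⟩ := E.mem_iff.1 (show e.symm y * x = x * e.symm y from e.injective (by simpa using hy))
      exact ⟨m, by show e (E.hom m) = y; rw [hm, e.apply_symm_apply]⟩

end Emb

/-! ### The centralizer of the central label in `PSp₄(3)` -/

/-- The matrix of the central label. -/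
def zMat : M4 := blk (1, 0, 0, 1) (2, 0, 0, 2)

theorem mat_z : mat 24 = zMat := by decide +kernel

theorem mul_zMat (g : M4) (i : Fin 2 ⊕ Fin 2) :
    (g * zMat) i (.inl 0) = g i (.inl 0) ∧ (g * zMat) i (.inl 1) = -g i (.inl 1) ∧
    (g * zMat) i (.inr 0) = g i (.inr 0) ∧ (g * zMat) i (.inr 1) = -g i (.inr 1) ∧
    (zMat * g) (.inl 0) i = g (.inl 0) i ∧ (zMat * g) (.inl 1) i = -g (.inl 1) i ∧
    (zMat * g) (.inr 0) i = g (.inr 0) i ∧ (zMat * g) (.inr 1) i = -g (.inr 1) i := by
  have h2 : (2 : ZMod 3) = -1 := by decide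
  simp [zMat, blk, Matrix.mul_apply, Fintype.sum_sum_type, h2]

theorem eq_zero_of_eq_neg : ∀ x : ZMod 3, x = -x → x = 0 := by decide

/-- An element of `Sp₄(3)` commuting with the central matrix is a block matrix. -/
theorem exists_blk {g : Sp43} (h : (g : M4) * zMat = zMat * g) :
    ∃ a b, a < 24 ∧ b < 24 ∧ (g : M4) = blk (sl a) (sl b) := by
  have e : ∀ i j, ((g : M4) * zMat) i j = (zMat * (g : M4)) i j := fun i j => by rw [h]
  have off : ∀ i j : Fin 2, i ≠ j → (g : M4) (.inl i) (.inl j) = 0 ∧ (g : M4) (.inl i) (.inr j) = 0 ∧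
      (g : M4) (.inr i) (.inl j) = 0 ∧ (g : M4) (.inr i) (.inr j) = 0 := by
    intro i j hij
    fin_cases i <;> fin_cases j
    · exact absurd rfl hij
    · have h1 := e (.inl 0) (.inl 1); have h2 := e (.inl 0) (.inr 1)
      have h3 := e (.inr 0) (.inl 1); have h4 := e (.inr 0) (.inr 1)
      rw [(mul_zMat _ _).2.1, (mul_zMat _ _).2.2.2.2.1] at h1
      rw [(mul_zMat _ _).2.2.2.1, (mul_zMat _ _).2.2.2.2.1] at h2
      rw [(mul_zMat _ _).2.1, (mul_zMat _ _).2.2.2.2.2.2.1] at h3
      rw [(mul_zMat _ _).2.2.2.1, (mul_zMat _ _).2.2.2.2.2.2.1] at h4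
      exact ⟨eq_zero_of_eq_neg _ h1.symm, eq_zero_of_eq_neg _ h2.symm, eq_zero_of_eq_neg _ h3.symm,
        eq_zero_of_eq_neg _ h4.symm⟩
    · have h1 := e (.inl 1) (.inl 0); have h2 := e (.inl 1) (.inr 0)
      have h3 := e (.inr 1) (.inl 0); have h4 := e (.inr 1) (.inr 0)
      rw [(mul_zMat _ _).1, (mul_zMat _ _).2.2.2.2.2.1] at h1
      rw [(mul_zMat _ _).2.2.1, (mul_zMat _ _).2.2.2.2.2.1] at h2
      rw [(mul_zMat _ _).1, (mul_zMat _ _).2.2.2.2.2.2.2] at h3
      rw [(mul_zMat _ _).2.2.1, (mul_zMat _ _).2.2.2.2.2.2.2] at h4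
      exact ⟨eq_zero_of_eq_neg _ h1, eq_zero_of_eq_neg _ h2, eq_zero_of_eq_neg _ h3,
        eq_zero_of_eq_neg _ h4⟩
    · exact absurd rfl hij
  obtain ⟨a1, a2, a3, a4⟩ := off 0 1 (by decide)
  obtain ⟨b1, b2, b3, b4⟩ := off 1 0 (by decide)
  have hs := SymplecticGroup.mem_iff.1 g.2
  have d : ∀ k : Fin 2, (g : M4) (.inl k) (.inl k) * (g : M4) (.inr k) (.inr k) -
      (g : M4) (.inl k) (.inr k) * (g : M4) (.inr k) (.inl k) = 1 := by
    intro k
    have hk := congrFun (congrFun hs (.inl k)) (.inr k)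
    fin_cases k <;>
      simp [Matrix.mul_apply, Matrix.J, Fintype.sum_sum_type, a1, a2, a3, a4, b1, b2, b3, b4] at hk ⊢ <;>
      linear_combination -hk
  obtain ⟨ha, ha'⟩ := sl_cover _ _ _ _ (d 0)
  obtain ⟨hb, hb'⟩ := sl_cover _ _ _ _ (d 1)
  refine ⟨_, _, ha, hb, ?_⟩
  rw [ha', hb']
  ext i j
  rcases i with i | i <;> rcases j with j | j <;> fin_cases i <;> fin_cases j <;>
    simp [blk, a1, a2, a3, a4, b1, b2, b3, b4]

theorem swap_zMat : swapM * zMat = -(zMat * swapM) := by decide +kernel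

theorem rep_z : M.rep M.z = (QuotientGroup.mk ⟨zMat, mat_z ▸ mat_mem (by norm_num)⟩ : Cfsg.PSp 2 (ZMod 3)) := by
  refine congrArg QuotientGroup.mk (Subtype.ext ?_)
  show mat M.z.val = zMat
  rw [M.z_val, mat_z]

/-- The model inside `PSp₄(3)`. -/
def model : Emb (M.repHom M.z) where
  hom := M.repHom
  inj := M.rep_injective
  map_z := rfl
  range_eq := by
    refine le_antisymm ?_ ?_
    · rintro _ ⟨a, rfl⟩
      rw [Subgroup.mem_centralizer_singleton_iff, ← map_mul, M.comm_z, map_mul]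
    · intro x hx
      obtain ⟨g, rfl⟩ := QuotientGroup.mk_surjective x
      rw [Subgroup.mem_centralizer_singleton_iff, show M.repHom M.z = M.rep M.z from rfl, rep_z,
        ← QuotientGroup.mk_mul, ← QuotientGroup.mk_mul, M.mk_eq_iff] at hx
      have key : ∀ s < 2, ∀ w : Sp43, (w : M4) = wp s → ((g * w : Sp43) : M4) * zMat = zMat * (g * w : Sp43) →
          (QuotientGroup.mk g : Cfsg.PSp 2 (ZMod 3)) ∈ M.repHom.range := by
        intro s hs w hw hc
        obtain ⟨a, b, ha, hb, hab⟩ := exists_blk hc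
        refine ⟨M.mk (lab a b s), ?_⟩
        refine M.mk_eq_iff.2 ?_
        show (g : M4) = mat (M.mk (lab a b s)).val ∨ (g : M4) = -mat (M.mk (lab a b s)).val
        have hg : (g : M4) = blk (sl a) (sl b) * wp s := by
          rw [← hab, Submonoid.coe_mul, hw, Matrix.mul_assoc]
          rcases (show s = 0 ∨ s = 1 by omega) with rfl | rfl
          · simp [wp]
          · simp [wp, swap_swap]
        rw [M.val_mk (lab_lt a hb hs)]
        rcases mat_lab ha hb hs with h | h <;> rw [h, hg]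
        · exact Or.inl rfl
        · exact Or.inr (neg_neg _).symm
      rcases hx with hx | hx
      · refine key 0 (by norm_num) 1 rfl ?_
        rw [mul_one]
        simpa using hx.symm
      · refine key 1 (by norm_num) ⟨swapM, SymplecticGroup.mem_iff.mpr (wp_mem 1)⟩ rfl ?_
        simp only [Submonoid.coe_mul] at hx ⊢
        rw [Matrix.mul_assoc, swap_zMat, Matrix.mul_neg, ← Matrix.mul_assoc, ← Matrix.mul_assoc, hx,
          Matrix.neg_mul]

/-- `PSp` along a ring isomorphism. -/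
noncomputable def pspCongr {F K : Type*} [Field F] [Field K] (e : F ≃+* K) (m : ℕ) :
    Cfsg.PSp m F ≃* Cfsg.PSp m K :=
  QuotientGroup.congr _ _ (H27.SpFourTwo.spCongr e m) (by
    apply le_antisymm
    · rintro _ ⟨x, hx, rfl⟩
      refine Subgroup.mem_center_iff.2 fun y => ?_
      obtain ⟨y, rfl⟩ := (H27.SpFourTwo.spCongr e m).surjective y
      exact ((map_mul _ y x).symm.trans (congrArg _ (Subgroup.mem_center_iff.1 hx y))).trans (map_mul _ x y)
    · intro y hy
      refine ⟨(H27.SpFourTwo.spCongr e m).symm y, Subgroup.mem_center_iff.2 fun x => ?_,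
        MulEquiv.apply_symm_apply _ y⟩
      apply (H27.SpFourTwo.spCongr e m).injective
      rw [map_mul, map_mul, MulEquiv.apply_symm_apply]
      exact Subgroup.mem_center_iff.1 hy _)

variable {F : Type*} [Field F] [Fintype F]

/-- The order of `PSp₄(3)`. -/
theorem card_psp_three (hF : Fintype.card F = 3) : Nat.card (Cfsg.PSp 2 F) = 25920 := by
  rw [Symplectic.card_psp 2 F (by norm_num), hF]
  rfl

/-- A 2-central involution of `PSp₄(3)` has centralizer the model. -/
theorem exists_emb_psp (hF : Fintype.card F = 3) (U : Sylow 2 (Cfsg.PSp 2 F)) (t₀ : Cfsg.PSp 2 F)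
    (ht₀ : orderOf t₀ = 2) (ht₀U : t₀ ∈ (U : Subgroup (Cfsg.PSp 2 F)))
    (ht₀c : ∀ u ∈ (U : Subgroup (Cfsg.PSp 2 F)), u * t₀ = t₀ * u) : Nonempty (Emb t₀) := by
  haveI : Fact (Nat.Prime 2) := ⟨Nat.prime_two⟩
  let e : ZMod 3 ≃+* F := FiniteField.ringEquivOfCardEq (K := ZMod 3) (K' := F) (by rw [hF, ZMod.card])
  let E₀ := model.map (pspCongr e 2)
  have hfac : (25920 : ℕ).factorization 2 = 6 := by
    rw [Nat.factorization_def _ Nat.prime_two, show (25920 : ℕ) = 2 ^ 6 * 405 by norm_num,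
      padicValNat.mul (by norm_num) (by norm_num), padicValNat.prime_pow,
      padicValNat.eq_zero_of_not_dvd (by norm_num : ¬ 2 ∣ 405)]
  have hcard : Nat.card (M.S.map E₀.hom) = 2 ^ (Nat.card (Cfsg.PSp 2 F)).factorization 2 := by
    rw [Subgroup.card_map_of_injective E₀.inj, M.card_S, card_psp_three hF, hfac]
    norm_num
  let P₀ := Sylow.ofCard (M.S.map E₀.hom) hcard
  obtain ⟨g, hg⟩ := MulAction.exists_smul_eq (Cfsg.PSp 2 F) U P₀
  have hsm : ∀ y, g * y * g⁻¹ ∈ M.S.map E₀.hom ↔ y ∈ U := by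
    intro y
    have h : g * y * g⁻¹ ∈ (g • U : Sylow 2 (Cfsg.PSp 2 F)) ↔ y ∈ U := by
      rw [Sylow.smul_def]
      exact Subgroup.smul_mem_pointwise_smul_iff (a := MulAut.conj g)
    rw [hg] at h
    exact h
  obtain ⟨m, hm, hme⟩ := (hsm t₀).2 ht₀U
  have hne : t₀ ≠ 1 := fun h => by rw [h, orderOf_one] at ht₀; exact absurd ht₀ (by norm_num)
  have hz : m = M.z := by
    refine (M.S_center hm fun y hy => E₀.inj ?_).resolve_left fun h => ?_
    · rw [map_mul, map_mul, hme]
      have hy' : g * (g⁻¹ * E₀.hom y * g) * g⁻¹ ∈ M.S.map E₀.hom := by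
        rw [show g * (g⁻¹ * E₀.hom y * g) * g⁻¹ = E₀.hom y by group]
        exact Subgroup.mem_map_of_mem _ hy
      have h := ht₀c _ ((hsm _).1 hy')
      calc g * t₀ * g⁻¹ * E₀.hom y = g * (t₀ * (g⁻¹ * E₀.hom y * g)) * g⁻¹ := by group
        _ = E₀.hom y * (g * t₀ * g⁻¹) := by rw [← h]; group
    · rw [h, map_one] at hme
      exact hne (conj_eq_one_iff.1 hme.symm)
  have hx : g⁻¹ * (pspCongr e 2) (M.repHom M.z) * (g⁻¹)⁻¹ = t₀ := by
    rw [← hz, show (pspCongr e 2) (M.repHom m) = E₀.hom m from rfl, hme]; group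
  exact ⟨hx ▸ E₀.conj g⁻¹⟩

/-- The hypothesis on `t` gives an embedding. -/
theorem exists_emb {G : Type*} [Group G] {t₀ : Cfsg.PSp 2 F} (E : Emb t₀) (t : G) (ht : orderOf t = 2)
    (e : ↥(Subgroup.centralizer ({t} : Set G)) ≃* ↥(Subgroup.centralizer ({t₀} : Set (Cfsg.PSp 2 F)))) :
    Nonempty (Emb t) := by
  let f : M →* ↥(Subgroup.centralizer ({t₀} : Set (Cfsg.PSp 2 F))) :=
    E.hom.codRestrict _ fun m => E.range_eq ▸ ⟨m, rfl⟩
  let h : M →* G := (Subgroup.centralizer ({t} : Set G)).subtype.comp (e.symm.toMonoidHom.comp f)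
  have hinj : Function.Injective h :=
    (Subgroup.subtype_injective _).comp (e.symm.injective.comp fun a b h => E.inj (congrArg Subtype.val h))
  have hrange : h.range = Subgroup.centralizer ({t} : Set G) := by
    refine le_antisymm ?_ fun y hy => ?_
    · rintro _ ⟨m, rfl⟩; exact (e.symm (f m)).2
    · have h2 : (e ⟨y, hy⟩ : Cfsg.PSp 2 F) ∈ E.hom.range := by rw [E.range_eq]; exact (e ⟨y, hy⟩).2
      obtain ⟨m, hm⟩ := h2
      refine ⟨m, ?_⟩
      have hfm : f m = e ⟨y, hy⟩ := Subtype.ext hm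
      show ((e.symm (f m)) : G) = y
      rw [hfm, MulEquiv.symm_apply_apply]
  refine ⟨⟨h, hinj, hrange, ?_⟩⟩
  have ht1 : t ≠ 1 := fun h' => by rw [h', orderOf_one] at ht; exact absurd ht (by norm_num)
  obtain ⟨m, hm⟩ : t ∈ h.range := by
    rw [hrange]; exact Subgroup.mem_centralizer_singleton_iff.2 rfl
  have hc : ∀ x : M, m * x = x * m := fun x => hinj (by
    have hx : h x ∈ Subgroup.centralizer ({t} : Set G) := hrange ▸ ⟨x, rfl⟩
    rw [map_mul, map_mul, hm]
    exact (Subgroup.mem_centralizer_singleton_iff.1 hx).symm)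
  rcases M.cent_U fun x _ => hc x with h1 | h1
  · rw [h1, map_one] at hm; exact absurd hm.symm ht1
  · rw [← h1, hm]

end Cfsg.Agent.H31.UFour
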